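import Mathlib
import Cfsg.Agent.H384.TwoTrans
import Cfsg.Agent.H529.ManyPrimes
import Cfsg.Agent.H454.Reg.Tools
import Cfsg.Agent.H600.KSix.Emb
import Cfsg.Agent.S0713
import Cfsg.Agent.H997.Rg.Core_m3
import Cfsg.Agent.H262.Rx.Name
import Cfsg.Prelude.Def_GeometricClasses
import Cfsg.Agent.H193.Dg.Orth
import Cfsg.Agent.S0293
import Cfsg.Agent.S0294
import Cfsg.Agent.H826.RgF.Defs_m3
import Cfsg.Agent.H884.ElO8
import Cfsg.Agent.AutOrth.Final
import Cfsg.Agent.S0292
import Cfsg.Agent.BpCl.Rows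
import Cfsg.Agent.H955.QSpace
import Cfsg.Agent.LieClassical.OrthFinite
import Cfsg.Agent.FastGrp
import Cfsg.Agent.Prune
set_option linter.all false

section
prune_inst 0x7fbbeffb9bf8e5dfffff7e7fa6f8cffc3b969fffe6dff94bffe4ebff8bdf03060be5fb8f0de018fe0ed6e23c10b87853f9ffeeffe36bd87ffffd1ff45ffbee5fe5ffbd0971d69c340f3c6ffff3f0778e7f3fffffffffffffffffffffffffffbeffbfffffffff

-- part: H454/Reg/Alt/Frame
section
prune_inst 0x41000640418000000000059051003c0696000190002b000191400640078e9f0100000f21f4001f021108262400380020000000c9405000002400820041180080042a60829208a10c210000c0f885100000000000000000000000000000041004000000000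
set_option linter.all false
open scoped Cfsg.Agent.FastGrp

-- part: H454/Reg/Alt/Defs
section
/-!
# S3691, alternating socle: concrete interface

* `PEx G H B` : `Alt(Ω) ≤ G ≤ Sym(Ω)`, `G = H B` exact, `H` maximal in `G`, degree at least 30
* `Pre G H B Γ k` : Case II, `B` stabilises the `k`-set `Γ`, `H` is `k`-homogeneous
* `Two G H B Γ k` : Case II, `k ≤ 3`: moreover `B` contains all even permutations fixing `Γ` pointwise, and no nontrivial even
  permutation of `H` fixes `k` points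
-/

set_option autoImplicit false

namespace Cfsg.Agent.H454.Reg.Alt

open Equiv MulAction

universe u

variable {Ω : Type u} [Fintype Ω] [DecidableEq Ω]

/-- the concrete situation for an alternating socle -/
structure PEx (G H B : Subgroup (Perm Ω)) : Prop where
  alt : alternatingGroup Ω ≤ G
  hG : H ≤ G
  bG : B ≤ G
  ne : H ≠ G
  max : ∀ M : Subgroup (Perm Ω), H ≤ M → M ≤ G → M = H ∨ M = G
  not_alt : ¬ alternatingGroup Ω ≤ H
  not_altB : ¬ alternatingGroup Ω ≤ B
  inf : H ⊓ B = ⊥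
  card : Nat.card H * Nat.card B = Nat.card G
  large : 3 * Nat.factorial 29 < Nat.card B
  nat : Nat.card B ≠ Fintype.card Ω
  deg : 30 ≤ Fintype.card Ω

/-- Case II, first part: `B` stabilises the `k`-set `Γ`, so `H` is `k`-homogeneous -/
structure Pre (G H B : Subgroup (Perm Ω)) (Γ : Finset Ω) (k : ℕ) : Prop extends PEx G H B where
  cardΓ : Γ.card = k
  pos : 1 ≤ k
  lt : 2 * k < Fintype.card Ω
  stab : ∀ b ∈ B, ∀ x ∈ Γ, b x ∈ Γ
  hom : IsPretransitive H (Set.powersetCard Ω k)

/-- Case II (`k ≤ 3`): `B` stabilises the `k`-set `Γ` and contains all even permutations which fix `Γ` pointwise -/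
structure Two (G H B : Subgroup (Perm Ω)) (Γ : Finset Ω) (k : ℕ) : Prop extends Pre G H B Γ k where
  alt_le : ∀ g ∈ alternatingGroup Ω, (∀ x ∈ Γ, g x = x) → g ∈ B
  triv : ∀ h ∈ H, h ∈ alternatingGroup Ω → ∀ s : Finset Ω, s.card = k → (∀ x ∈ s, h x = x) → h = 1

/-- (T1) the 2-transitive list in Case II, `k = 3` -/
def StThree : Prop :=
  ∀ {Ω : Type u} [Fintype Ω] [DecidableEq Ω] (H : Subgroup (Perm Ω)) (T : Subgroup H), 30 ≤ Fintype.card Ω →
    H384.TwoTrans.AS H Ω T → H384.TwoTrans.Known2 T (Nat.card Ω) → ¬ alternatingGroup Ω ≤ H →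
    IsPretransitive H (Set.powersetCard Ω 3) →
    (∀ h ∈ H, h ∈ alternatingGroup Ω → ∀ s : Finset Ω, s.card = 3 → (∀ x ∈ s, h x = x) → h = 1) →
    ∃ (F : Type) (_ : Field F) (_ : Fintype F), Fintype.card Ω = Fintype.card F + 1 ∧
      Nonempty (T ≃* Matrix.ProjectiveSpecialLinearGroup (Fin 2) F)

/-- (T2) a transitive group `N ≅ PSL₂(q)` of degree `q + 1`: the action is the action on the projective line, and the
semilinear maps of the projective line normalise it -/
def StLine : Prop :=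
  ∀ {Ω : Type u} [Fintype Ω] [DecidableEq Ω] (N : Subgroup (Perm Ω)) (F : Type) [Field F] [Fintype F],
    30 ≤ Fintype.card Ω → Fintype.card Ω = Fintype.card F + 1 → IsPretransitive N Ω →
    Nonempty (N ≃* Matrix.ProjectiveSpecialLinearGroup (Fin 2) F) →
    ∃ e : Ω ≃ Option F,
      -- `σ ∈ Aut F` acting on `F ∪ {∞}`
      (∀ σ : F ≃+* F, ∀ g : Perm Ω, (∀ x : Ω, e (g x) = (e x).map σ) → g ∈ Subgroup.normalizer (N : Set (Perm Ω))) ∧
      -- `x ↦ a x + b`
      (∀ a b : F, a ≠ 0 → ∀ g : Perm Ω, (∀ x : Ω, e (g x) = (e x).map (fun y => a * y + b)) →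
        g ∈ Subgroup.normalizer (N : Set (Perm Ω)))

/-- (T3) `k ≥ 4` is impossible -/
def StFour : Prop :=
  ∀ {Ω : Type u} [Fintype Ω] [DecidableEq Ω] (G H B : Subgroup (Perm Ω)) (Γ : Finset Ω) (k : ℕ), 4 ≤ k →
    Pre G H B Γ k → False

end Cfsg.Agent.H454.Reg.Alt
end

-- part: H454/Reg/Alt/Frame
section
/-!
# S3691, alternating socle: the frame

* `exists_prime` : a prime `p` with `m/2 < p ≤ m - 6`
* `exists_pex` : the concrete situation `PEx` from `Ex`
* `PEx.dich` : Case I (`B` regular on `k`-sets) or Case II (`Pre`, `Two`)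
-/

set_option autoImplicit false

namespace Cfsg.Agent.H454.Reg.Alt

open Equiv MulAction Subgroup
open scoped Pointwise

universe u

open Cfsg.Agent.H529.ManyPrimes in
/-- for `m ≥ 30` there is a prime `p` with `m < 2 p`, `p + 6 ≤ m` -/
theorem exists_prime {m : ℕ} (hm : 30 ≤ m) : ∃ p : ℕ, p.Prime ∧ m < 2 * p ∧ p + 6 ≤ m := by
  rcases lt_or_ge m 2048 with h | h
  · rcases lt_or_ge m 34 with h1 | h1
    · exact ⟨17, by norm_num, by omega, by omega⟩
    rcases lt_or_ge m 38 with h1 | h1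
    · exact ⟨19, by norm_num, by omega, by omega⟩
    rcases lt_or_ge m 62 with h1 | h1
    · exact ⟨31, by norm_num, by omega, by omega⟩
    rcases lt_or_ge m 106 with h1 | h1
    · exact ⟨53, by norm_num, by omega, by omega⟩
    rcases lt_or_ge m 194 with h1 | h1
    · exact ⟨97, by norm_num, by omega, by omega⟩
    rcases lt_or_ge m 362 with h1 | h1
    · exact ⟨181, by norm_num, by omega, by omega⟩
    rcases lt_or_ge m 698 with h1 | h1
    · exact ⟨349, by norm_num, by omega, by omega⟩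
    rcases lt_or_ge m 1382 with h1 | h1
    · exact ⟨691, by norm_num, by omega, by omega⟩
    · exact ⟨1373, by norm_num, by omega, by omega⟩
  · have h1 := three_le_card (n := m / 2) (by omega)
    have h2 : 2 < (T (m / 2)).card := h1
    rw [Finset.two_lt_card] at h2
    obtain ⟨a, ha, b, hb, c, hc, hab, hac, hbc⟩ := h2
    rw [mem_T] at ha hb hc
    have hoa : a % 2 = 1 := Nat.odd_iff.1 (ha.2.odd_of_ne_two (by omega))
    have hob : b % 2 = 1 := Nat.odd_iff.1 (hb.2.odd_of_ne_two (by omega))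
    have hoc : c % 2 = 1 := Nat.odd_iff.1 (hc.2.odd_of_ne_two (by omega))
    have h3 : ∀ x : ℕ, x.Prime → m / 2 < x → x % 3 ≠ 0 := by
      intro x hx hxm h0
      have := (Nat.prime_dvd_prime_iff_eq Nat.prime_three hx).1 (Nat.dvd_of_mod_eq_zero h0)
      omega
    have h3a := h3 a ha.2 ha.1.1
    have h3b := h3 b hb.2 hb.1.1
    have h3c := h3 c hc.2 hc.1.1
    by_cases h6a : a + 6 ≤ m
    · exact ⟨a, ha.2, by omega, h6a⟩
    by_cases h6b : b + 6 ≤ m
    · exact ⟨b, hb.2, by omega, h6b⟩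
    by_cases h6c : c + 6 ≤ m
    · exact ⟨c, hc.2, by omega, h6c⟩
    · have ea : a % 6 = 1 ∨ a % 6 = 5 := by (clear * - hoa h3a; omega)
      have eb : b % 6 = 1 ∨ b % 6 = 5 := by (clear * - hob h3b; omega)
      have ec : c % 6 = 1 ∨ c % 6 = 5 := by (clear * - hoc h3c; omega)
      rcases ea with ea | ea <;> rcases eb with eb | eb <;> rcases ec with ec | ec <;> (clear * - hb hc hbc h6b h6c eb ec ha hab h6a ea hac hob h3a; omega)

section gen

variable {Ω : Type u} [Fintype Ω] [DecidableEq Ω]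

/-- the action of the cyclic group generated by a cycle on its support, and the induced primitivity -/
theorem prim_of_cycle (X : Subgroup (Perm Ω)) (hX : IsPretransitive X Ω) {c : Perm Ω} (hc : c ∈ X) (hcyc : c.IsCycle)
    (hp : c.support.card.Prime) (hlt : Fintype.card Ω < 2 * c.support.card) : IsPreprimitive X Ω := by
  obtain ⟨a, ha, hall⟩ := id hcyc
  have horb : (orbit (zpowers c) a : Set Ω) = (c.support : Set Ω) := by
    ext x
    rw [mem_orbit_iff]
    constructor
    · rintro ⟨⟨g, k, rfl⟩, rfl⟩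
      rw [Finset.mem_coe]
      change (c ^ k) a ∈ c.support
      rw [Perm.zpow_apply_mem_support, Perm.mem_support]
      exact ha
    · intro hx
      obtain ⟨k, hk⟩ := hall (Perm.mem_support.1 (Finset.mem_coe.1 hx))
      exact ⟨⟨c ^ k, k, rfl⟩, hk⟩
  have hcard : Nat.card (orbit (zpowers c) a) = c.support.card := by
    rw [horb, Nat.card_coe_set_eq, Set.ncard_coe_finset]
  have hprim : IsPreprimitive (zpowers c) (orbit (zpowers c) a) := by
    apply IsPreprimitive.of_prime_card
    rw [hcard]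
    exact hp
  let φ : zpowers c → X := fun g => ⟨g, (zpowers_le.2 hc) g.2⟩
  let f : (orbit (zpowers c) a) →ₑ[φ] Ω :=
    { toFun := fun x => x
      map_smul' := fun g x => rfl }
  have hrange : (Set.range f).ncard = c.support.card := by
    have : Set.range f = (c.support : Set Ω) := by
      rw [← horb]
      exact Subtype.range_coe
    rw [this, Set.ncard_coe_finset]
  refine IsPreprimitive.of_card_lt (φ := φ) (f := f) ?_
  rw [hrange, Nat.card_eq_fintype_card]
  exact hlt

/-- the alternating group moves every finset to every other finset of the same size -/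
theorem trans_alt {s t : Finset Ω} (hst : s.card = t.card) (hs : s.card + 2 ≤ Fintype.card Ω) :
    ∃ g ∈ alternatingGroup Ω, ∀ x ∈ s, g x ∈ t := by
  have h1 : IsMultiplyPretransitive (alternatingGroup Ω) Ω (Nat.card Ω - 2) :=
    alternatingGroup.isMultiplyPretransitive Ω
  have h2 : IsMultiplyPretransitive (alternatingGroup Ω) Ω s.card := by
    apply isMultiplyPretransitive_of_le (n := Nat.card Ω - 2)
    · rw [Nat.card_eq_fintype_card]; omega
    · rw [Nat.card_eq_fintype_card]; omega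
  have h3 := Set.powersetCard.isPretransitive_of_isMultiplyPretransitive (alternatingGroup Ω) (α := Ω) h2
  obtain ⟨g, hg⟩ := h3.exists_smul_eq ⟨s, rfl⟩ ⟨t, hst.symm⟩
  refine ⟨g, g.2, fun x hx => ?_⟩
  have h4 : g • s = t := congrArg Subtype.val hg
  rw [← h4]
  exact Finset.smul_mem_smul_finset hx

/-- the setwise stabiliser of a finset in a permutation group -/
def stab (Γ : Finset Ω) : Subgroup (Perm Ω) where
  carrier := {g | ∀ x, g x ∈ Γ ↔ x ∈ Γ}
  one_mem' := fun x => Iff.rfl
  mul_mem' := fun {a b} ha hb x => (ha (b x)).trans (hb x)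
  inv_mem' := fun {a} ha x => by
    have h1 := ha (a⁻¹ x)
    have h2 : a (a⁻¹ x) = x := a.apply_symm_apply x
    rw [h2] at h1
    exact h1.symm

omit [Fintype Ω] [DecidableEq Ω] in
theorem mem_stab_of {Γ : Finset Ω} {g : Perm Ω} (h : ∀ x ∈ Γ, g x ∈ Γ) : g ∈ stab Γ := by
  have h1 : Γ.map g.toEmbedding = Γ := by
    apply Finset.eq_of_subset_of_card_le
    · intro y hy
      obtain ⟨x, hx, rfl⟩ := Finset.mem_map.1 hy
      exact h x hx
    · rw [Finset.card_map]
  intro x
  refine ⟨fun hx => ?_, h x⟩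
  rw [← h1, Finset.mem_map] at hx
  obtain ⟨y, hy, hyx⟩ := hx
  rw [← g.injective hyx]
  exact hy

/-- a proper nonempty subset is not invariant under the alternating group -/
theorem not_alt_le_stab {Γ : Finset Ω} (h0 : Γ.Nonempty) (h1 : 2 * Γ.card < Fintype.card Ω) (hm : 5 ≤ Fintype.card Ω) :
    ¬ alternatingGroup Ω ≤ stab Γ := by
  intro hle
  obtain ⟨a, ha⟩ := h0
  have h2 : Γ ≠ Finset.univ := by
    intro h
    rw [h, Finset.card_univ] at h1
    omega
  obtain ⟨b, hb⟩ : ∃ b, b ∉ Γ := by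
    by_contra hcon
    push Not at hcon
    exact h2 (Finset.eq_univ_iff_forall.2 hcon)
  obtain ⟨g, hg, hgs⟩ := trans_alt (s := {a}) (t := {b}) (by simp) (by simp only [_root_.Finset.card_singleton, _root_.Nat.reduceAdd]; omega)
  have h3 : g a = b := by
    have := hgs a (Finset.mem_singleton_self a)
    exact Finset.mem_singleton.1 this
  have h4 := (hle hg a).2 ha
  rw [h3] at h4
  exact hb h4

end gen

section PEx

variable {Ω : Type u} [Fintype Ω] [DecidableEq Ω] {G H B : Subgroup (Perm Ω)}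

theorem PEx.exists_mul (h : PEx G H B) {g : Perm Ω} (hg : g ∈ G) : ∃ x ∈ H, ∃ y ∈ B, x * y = g := by
  let f : H × B → G := fun z => ⟨(z.1 : Perm Ω) * (z.2 : Perm Ω), G.mul_mem (h.hG z.1.2) (h.bG z.2.2)⟩
  have hinj : Function.Injective f := by
    rintro ⟨a, b⟩ ⟨c, d⟩ hab
    have hab' : (a : Perm Ω) * b = c * d := congrArg Subtype.val hab
    have h1 : (c : Perm Ω)⁻¹ * a = d * (b : Perm Ω)⁻¹ := by
      rw [inv_mul_eq_iff_eq_mul, ← mul_assoc, ← hab', mul_inv_cancel_right]
    have h2 : (c : Perm Ω)⁻¹ * a ∈ H ⊓ B :=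
      ⟨H.mul_mem (H.inv_mem c.2) a.2, by rw [h1]; exact B.mul_mem d.2 (B.inv_mem b.2)⟩
    rw [h.inf, Subgroup.mem_bot] at h2
    have h3 : (a : Perm Ω) = c := (inv_mul_eq_one.1 h2).symm
    have h4 : (b : Perm Ω) = d := by
      rw [h1] at h2
      exact (mul_inv_eq_one.1 h2).symm
    exact Prod.ext (Subtype.ext h3) (Subtype.ext h4)
  have hbij : Function.Bijective f := by
    rw [Nat.bijective_iff_injective_and_card]
    exact ⟨hinj, by rw [Nat.card_prod]; exact h.card⟩
  obtain ⟨⟨x, y⟩, hxy⟩ := hbij.2 ⟨g, hg⟩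
  exact ⟨x, x.2, y, y.2, congrArg Subtype.val hxy⟩

/-- no nontrivial element of `H` is conjugate in `G` to an element of `B` -/
theorem PEx.not_conj (h : PEx G H B) {x g : Perm Ω} (hx : x ∈ H) (hg : g ∈ G) (hy : g * x * g⁻¹ ∈ B) : x = 1 := by
  obtain ⟨a, ha, b, hb, hab⟩ := h.exists_mul (G.inv_mem hg)
  have hg : g = b⁻¹ * a⁻¹ := by rw [← mul_inv_rev, hab, inv_inv]
  have h1 : a⁻¹ * x * a ∈ H ⊓ B := by
    refine ⟨H.mul_mem (H.mul_mem (H.inv_mem ha) hx) ha, ?_⟩
    have : a⁻¹ * x * a = b * (g * x * g⁻¹) * b⁻¹ := by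
      rw [hg]; group
    rw [this]
    exact B.mul_mem (B.mul_mem hb hy) (B.inv_mem hb)
  rw [h.inf, Subgroup.mem_bot] at h1
  have h2 : x = a * (a⁻¹ * x * a) * a⁻¹ := by group
  rw [h2, h1]; group

theorem PEx.exists_mul' (h : PEx G H B) {g : Perm Ω} (hg : g ∈ G) : ∃ y ∈ B, ∃ x ∈ H, y * x = g := by
  obtain ⟨x, hx, y, hy, hxy⟩ := h.exists_mul (G.inv_mem hg)
  exact ⟨y⁻¹, B.inv_mem hy, x⁻¹, H.inv_mem hx, by rw [← mul_inv_rev, hxy, inv_inv]⟩

end PEx

section factor

variable {Ω : Type u} [Fintype Ω] [DecidableEq Ω]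

/-- a subgroup of order divisible by `p`, `m/2 < p ≤ m - 6`, which does not contain the alternating group is intransitive -/
theorem exists_orbit (X : Subgroup (Perm Ω)) (hX : ¬ alternatingGroup Ω ≤ X) {p : ℕ} (hp : p.Prime) (hpX : p ∣ Nat.card X)
    (hlt : Fintype.card Ω < 2 * p) (hle : p + 6 ≤ Fintype.card Ω) :
    ∃ c ∈ X, c.IsCycle ∧ c.support.card = p ∧ ∃ Γ : Finset Ω, Γ.Nonempty ∧ Γ.card + p ≤ Fintype.card Ω ∧
      X ≤ stab Γ ∧ (∀ a b, a ∉ Γ → b ∉ Γ → ∃ x ∈ X, x a = b) ∧ ∀ x ∈ Γ, c x = x := by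
  classical
  have := Fact.mk hp
  obtain ⟨⟨c, hcX⟩, hc⟩ := exists_prime_orderOf_dvd_card' p hpX
  have hc' : orderOf c = p := by rw [← hc, Subgroup.orderOf_mk]
  have hcyc : c.IsCycle := Perm.isCycle_of_prime_order' (by rw [hc']; exact hp) (by rw [hc']; exact hlt)
  have hsup : c.support.card = p := by rw [← hcyc.orderOf, hc']
  obtain ⟨a, ha, hall⟩ := id hcyc
  let Γ : Finset Ω := Finset.univ.filter fun x => x ∉ orbit X a
  have hΓ : ∀ x, x ∈ Γ ↔ x ∉ orbit X a := fun x => by simp only [Γ, _root_.Finset.mem_filter, _root_.Finset.mem_univ, _root_.true_and]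
  have hfix : ∀ x ∈ Γ, c x = x := by
    intro x hx
    by_contra hcx
    rw [hΓ] at hx
    obtain ⟨k, hk⟩ := hall hcx
    exact hx ⟨⟨c ^ k, X.zpow_mem hcX k⟩, hk⟩
  refine ⟨c, hcX, hcyc, hsup, Γ, ?_, ?_, ?_, ?_, hfix⟩
  · by_contra hne
    rw [Finset.not_nonempty_iff_eq_empty] at hne
    apply hX
    have htr : IsPretransitive X Ω := by
      rw [isPretransitive_iff_base a]
      intro x
      have : x ∈ orbit X a := by
        by_contra h1
        have := (hΓ x).2 h1
        rw [hne] at this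
        exact absurd this (Finset.notMem_empty x)
      exact this
    have hprim := prim_of_cycle X htr hcX hcyc (by rw [hsup]; exact hp) (by rw [hsup]; exact hlt)
    exact Cfsg.Agent.S0713.result X hprim hp (by omega) (by omega) hcyc hsup hcX
  · have h1 : Disjoint Γ c.support := by
      rw [Finset.disjoint_left]
      intro x hx hx'
      exact (Perm.mem_support.1 hx') (hfix x hx)
    rw [← hsup, ← Finset.card_union_of_disjoint h1]
    exact Finset.card_le_univ _
  · intro g hg x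
    rw [hΓ, hΓ]
    refine not_congr ⟨?_, ?_⟩
    · rintro ⟨y, hy⟩
      refine ⟨⟨g⁻¹, X.inv_mem hg⟩ * y, ?_⟩
      change g⁻¹ ((y : Perm Ω) a) = x
      have h2 : (y : Perm Ω) a = g x := hy
      rw [h2]
      exact g.symm_apply_apply x
    · rintro ⟨y, hy⟩
      refine ⟨⟨g, hg⟩ * y, ?_⟩
      change g ((y : Perm Ω) a) = g x
      have h2 : (y : Perm Ω) a = x := hy
      rw [h2]
  · intro x y hx hy
    rw [hΓ, not_not] at hx hy
    obtain ⟨u, hu⟩ := hx
    obtain ⟨v, hv⟩ := hy
    refine ⟨v * (u : Perm Ω)⁻¹, X.mul_mem v.2 (X.inv_mem u.2), ?_⟩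
    have h1 : (u : Perm Ω) a = x := hu
    have h2 : (v : Perm Ω) a = y := hv
    change (v : Perm Ω) ((u : Perm Ω)⁻¹ x) = y
    rw [← h1, ← h2]
    congr 1
    exact (u : Perm Ω).symm_apply_apply a

/-- restriction to the complement of an invariant finset -/
def res (Γ : Finset Ω) : stab Γ →* Perm {x // x ∉ Γ} where
  toFun g := (g : Perm Ω).subtypePerm fun x => not_congr (g.2 x)
  map_one' := by ext x; rfl
  map_mul' g h := by ext x; rfl

/-- restriction to an invariant finset -/
def resIn (Γ : Finset Ω) : stab Γ →* Perm {x // x ∈ Γ} where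
  toFun g := (g : Perm Ω).subtypePerm fun x => g.2 x
  map_one' := by ext x; rfl
  map_mul' g h := by ext x; rfl

omit [Fintype Ω] in
theorem eq_one_of_res {Γ : Finset Ω} {g : stab Γ} (h1 : res Γ g = 1) (h2 : resIn Γ g = 1) : g = 1 := by
  apply Subtype.ext
  ext x
  by_cases hx : x ∈ Γ
  · have := congrArg (fun f => ((f ⟨x, hx⟩ : {x // x ∈ Γ}) : Ω)) h2
    exact this
  · have := congrArg (fun f => ((f ⟨x, hx⟩ : {x // x ∉ Γ}) : Ω)) h1
    exact this

/-- `B ≤ stab Γ` transitive on the complement and containing a `p`-cycle contains the alternating group of the complement -/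
theorem alt_le_of_cycle (X : Subgroup (Perm Ω)) {Γ : Finset Ω} (hX : X ≤ stab Γ) (hΓ3 : Γ.card ≤ 3) {p : ℕ} (hp : p.Prime)
    (hlt : Fintype.card Ω < 2 * p) (hle : p + 6 ≤ Fintype.card Ω) (htr : ∀ a b, a ∉ Γ → b ∉ Γ → ∃ x ∈ X, x a = b)
    {c : Perm Ω} (hc : c ∈ X) (hcyc : c.IsCycle) (hsup : c.support.card = p) (hfix : ∀ x ∈ Γ, c x = x)
    {g : Perm Ω} (hg : g ∈ alternatingGroup Ω) (hgΓ : ∀ x ∈ Γ, g x = x) : g ∈ X := by
  classical
  set X' : Subgroup (stab Γ) := X.subgroupOf (stab Γ) with hX'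
  set R : Subgroup (Perm {x // x ∉ Γ}) := X'.map (res Γ) with hR
  have hcardΔ : Fintype.card {x // x ∉ Γ} = Fintype.card Ω - Γ.card := by
    rw [Fintype.card_subtype_compl, Fintype.card_coe]
  -- transitivity
  have hRtr : IsPretransitive R {x // x ∉ Γ} := by
    constructor
    intro a b
    obtain ⟨x, hx, hxa⟩ := htr a b a.2 b.2
    exact ⟨⟨res Γ ⟨x, hX hx⟩, ⟨⟨x, hX hx⟩, hx, rfl⟩⟩, Subtype.ext hxa⟩
  -- the cycle
  have hcs : c ∈ stab Γ := hX hc
  have hmv : ∀ x, c x ≠ x → x ∉ Γ := fun x h1 h2 => h1 (hfix x h2)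
  set c' : Perm {x // x ∉ Γ} := res Γ ⟨c, hcs⟩ with hc'
  have hc'cyc : c'.IsCycle := by
    obtain ⟨a, ha, hall⟩ := id hcyc
    refine ⟨⟨a, hmv a ha⟩, fun h => ha (congrArg Subtype.val h), fun y hy => ?_⟩
    have h1 : c y ≠ y := fun h => hy (Subtype.ext h)
    obtain ⟨k, hk⟩ := hall h1
    refine ⟨k, ?_⟩
    rw [hc', ← map_zpow]
    exact Subtype.ext hk
  have hc'sup : c'.support.card = p := by
    have h1 : c'.support.map (Function.Embedding.subtype _) = c.support := by
      ext x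
      rw [Finset.mem_map]
      constructor
      · rintro ⟨y, hy, rfl⟩
        rw [Perm.mem_support] at hy ⊢
        exact fun h => hy (Subtype.ext h)
      · intro hx
        rw [Perm.mem_support] at hx
        refine ⟨⟨x, hmv x hx⟩, ?_, rfl⟩
        rw [Perm.mem_support]
        exact fun h => hx (congrArg Subtype.val h)
    rw [← hsup, ← h1, Finset.card_map]
  have hc'R : c' ∈ R := ⟨⟨c, hcs⟩, hc, rfl⟩
  have hprim := prim_of_cycle R hRtr hc'R hc'cyc (by rw [hc'sup]; exact hp) (by rw [hc'sup, hcardΔ]; omega)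
  have hAR : alternatingGroup {x // x ∉ Γ} ≤ R :=
    Cfsg.Agent.S0713.result R hprim hp (by rw [hcardΔ]; omega) (by rw [hcardΔ]; omega) hc'cyc hc'sup hc'R
  -- the kernel on `Γ`
  set K : Subgroup (Perm {x // x ∉ Γ}) := (X' ⊓ (resIn Γ).ker).map (res Γ) with hK
  have hKn : (K.subgroupOf (alternatingGroup {x // x ∉ Γ})).Normal := by
    constructor
    rintro n hn a
    obtain ⟨y, ⟨hy1, hy2⟩, hyn⟩ := hn
    obtain ⟨z, hz, hza⟩ := hAR a.2
    refine ⟨z * y * z⁻¹, ⟨X'.mul_mem (X'.mul_mem hz hy1) (X'.inv_mem hz), ?_⟩, ?_⟩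
    · exact (MonoidHom.normal_ker (resIn Γ)).conj_mem y hy2 z
    · rw [map_mul, map_mul, map_inv, hza, hyn]; rfl
  have hsimple : IsSimpleGroup (alternatingGroup {x // x ∉ Γ}) := alternatingGroup.isSimpleGroup (by
    rw [Nat.card_eq_fintype_card, hcardΔ]; omega)
  have hK1 : K.subgroupOf (alternatingGroup {x // x ∉ Γ}) = ⊤ := by
    rcases hKn.eq_bot_or_eq_top with h1 | h1
    · exfalso
      -- the preimage of the alternating group embeds in `Perm Γ`
      set A0 : Subgroup (stab Γ) := X' ⊓ (alternatingGroup {x // x ∉ Γ}).comap (res Γ) with hA0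
      have h2 : Nat.card (alternatingGroup {x // x ∉ Γ}) ≤ Nat.card A0 := by
        have h3 : A0.map (res Γ) = alternatingGroup {x // x ∉ Γ} := by
          ext y
          constructor
          · rintro ⟨z, hz, rfl⟩
            exact hz.2
          · intro hy
            obtain ⟨z, hz, hzy⟩ := hAR hy
            refine ⟨z, ⟨hz, ?_⟩, hzy⟩
            change res Γ z ∈ alternatingGroup {x // x ∉ Γ}
            rw [hzy]; exact hy
        rw [← h3]
        exact Nat.card_le_card_of_surjective _ ((res Γ).subgroupMap_surjective A0)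
      have h4 : Nat.card A0 ≤ Nat.card (Perm {x // x ∈ Γ}) := by
        let f : A0 →* Perm {x // x ∈ Γ} := (resIn Γ).comp A0.subtype
        have hf : Function.Injective f := by
          rw [injective_iff_map_eq_one]
          intro z hz
          have h5 : (z : stab Γ) ∈ (resIn Γ).ker := hz
          have h6 : res Γ (z : stab Γ) = 1 := by
            have h7 : (⟨res Γ (z : stab Γ), z.2.2⟩ : alternatingGroup {x // x ∉ Γ}) ∈
                K.subgroupOf (alternatingGroup {x // x ∉ Γ}) := ⟨z, ⟨z.2.1, h5⟩, rfl⟩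
            rw [h1, Subgroup.mem_bot] at h7
            exact congrArg Subtype.val h7
          exact Subtype.ext (eq_one_of_res h6 h5)
        exact Nat.card_le_card_of_injective f hf
      have h8 : Nat.card (Perm {x // x ∈ Γ}) ≤ 6 := by
        rw [Nat.card_eq_fintype_card, Fintype.card_perm, Fintype.card_coe]
        calc Nat.factorial Γ.card ≤ Nat.factorial 3 := Nat.factorial_le hΓ3
          _ = 6 := rfl
      have h9 : 13 ≤ Nat.card (alternatingGroup {x // x ∉ Γ}) := by
        have hnt : Nontrivial {x // x ∉ Γ} := by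
          rw [← Fintype.one_lt_card_iff_nontrivial, hcardΔ]; omega
        have h10 := two_mul_card_alternatingGroup (α := {x // x ∉ Γ})
        rw [Fintype.card_perm, hcardΔ] at h10
        have h11 : Nat.factorial 5 ≤ Nat.factorial (Fintype.card Ω - Γ.card) := Nat.factorial_le (by omega)
        have h12 : Nat.factorial 5 = 120 := rfl
        rw [Nat.card_eq_fintype_card]
        omega
      omega
    · exact h1
  -- the element `g`
  have hgs : g ∈ stab Γ := mem_stab_of fun x hx => by rw [hgΓ x hx]; exact hx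
  have hg' : res Γ ⟨g, hgs⟩ ∈ alternatingGroup {x // x ∉ Γ} := by
    rw [Perm.mem_alternatingGroup] at hg ⊢
    rw [← hg]
    exact Perm.sign_subtypePerm g (fun x => not_congr (hgs x)) fun x h1 h2 => h1 (hgΓ x h2)
  have h1 : (⟨res Γ ⟨g, hgs⟩, hg'⟩ : alternatingGroup {x // x ∉ Γ}) ∈ K.subgroupOf (alternatingGroup {x // x ∉ Γ}) := by
    rw [hK1]; trivial
  obtain ⟨y, ⟨hy1, hy2⟩, hyg⟩ := h1
  have h2 : y = ⟨g, hgs⟩ := by
    have h3 : resIn Γ ⟨g, hgs⟩ = 1 := by
      ext x
      exact hgΓ x x.2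
    have h4 : res Γ (y * ⟨g, hgs⟩⁻¹) = 1 := by
      rw [map_mul, map_inv]
      rw [mul_inv_eq_one]
      exact hyg
    have h5 : resIn Γ (y * ⟨g, hgs⟩⁻¹) = 1 := by
      rw [map_mul, map_inv, h3, inv_one, mul_one]
      exact hy2
    exact mul_inv_eq_one.1 (eq_one_of_res h4 h5)
  rw [h2] at hy1
  exact hy1

end factor

section embed

/-- **The concrete situation.** -/
theorem exists_pex {G : Type u} [Group G] [Finite G] {T H B : Subgroup G} (h : Ex T H B) (h0 : ¬ T ≤ B) {n : ℕ}
    (e : T ≃* alternatingGroup (Fin n)) :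
    ∃ f : G →* Perm (Fin n), Function.Injective f ∧ PEx f.range (H.map f) (B.map f) := by
  have hTn := h.normal
  -- the degree
  have hcardT : Nat.card T = Nat.card (alternatingGroup (Fin n)) := Nat.card_congr e.toEquiv
  have hlarge := h.large_socle
  have hn2 : 2 ≤ n := by
    by_contra hn
    have h1 : Nat.card T ≤ Nat.factorial n := by
      rw [hcardT, ← Fintype.card_fin n, ← Fintype.card_perm, Fintype.card_fin n, ← Nat.card_eq_fintype_card]
      exact Subgroup.card_le_card_group _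
    have h2 : Nat.factorial n ≤ Nat.factorial 2 := Nat.factorial_le (by omega)
    have h3 : Nat.factorial 2 ≤ Nat.factorial 29 := Nat.factorial_le (by norm_num)
    omega
  have hnt : Nontrivial (Fin n) := Fin.nontrivial_iff_two_le.2 hn2
  have hcard2 : 2 * Nat.card T = Nat.factorial n := by
    have h1 := two_mul_card_alternatingGroup (α := Fin n)
    rw [Fintype.card_perm, Fintype.card_fin] at h1
    rw [hcardT, Nat.card_eq_fintype_card]
    exact h1
  have hn : 30 ≤ n := by
    by_contra hn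
    have h1 : Nat.factorial n ≤ Nat.factorial 29 := Nat.factorial_le (by omega)
    omega
  obtain ⟨f, hf⟩ := Cfsg.Agent.H600.KSix.exists_emb (n := n) (by omega) T e h.cent
  have hfT : ∀ K : Subgroup G, alternatingGroup (Fin n) ≤ K.map f → T ≤ K := by
    intro K hK
    -- `alternatingGroup ≤ T.map f`, so `T.map f = alternatingGroup`
    have h1 : T.map f ⊓ alternatingGroup (Fin n) = T.map f := by
      have h2 : ((alternatingGroup (Fin n)).comap f).Normal := inferInstance
      -- `f T` is perfect, so even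
      have h3 : T ≤ (alternatingGroup (Fin n)).comap f := by
        have := h.simple
        have h4 : (((alternatingGroup (Fin n)).comap f).subgroupOf T).Normal := h2.subgroupOf T
        rcases h4.eq_bot_or_eq_top with h5 | h5
        · exfalso
          apply h.nonab
          refine ⟨⟨fun a b => ?_⟩⟩
          have h6 : a * b * a⁻¹ * b⁻¹ ∈ ((alternatingGroup (Fin n)).comap f).subgroupOf T := by
            rw [Subgroup.mem_subgroupOf, Subgroup.mem_comap, Perm.mem_alternatingGroup]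
            have h7 : f ((a * b * a⁻¹ * b⁻¹ : T) : G) = f a * f b * (f a)⁻¹ * (f b)⁻¹ := by
              simp only [_root_.Subgroup.coe_mul, _root_.InvMemClass.coe_inv, _root_.map_mul, _root_.map_inv]
            rw [h7, map_mul, map_mul, map_mul, map_inv, map_inv]
            have h8 := Int.units_eq_one_or (Perm.sign (f a))
            have h9 := Int.units_eq_one_or (Perm.sign (f b))
            rcases h8 with h8 | h8 <;> rcases h9 with h9 | h9 <;> rw [h8, h9] <;> simp only [_root_.mul_one, _root_.inv_one, _root_.mul_neg, _root_.inv_neg, _root_.neg_neg]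
          rw [h5, Subgroup.mem_bot] at h6
          have h7 : a * b * (b * a)⁻¹ = 1 := by rw [← h6]; group
          exact mul_inv_eq_one.1 h7
        · exact Subgroup.subgroupOf_eq_top.1 h5
      exact inf_eq_left.2 (Subgroup.map_le_iff_le_comap.2 h3)
    have h2 : Nat.card (T.map f) = Nat.card (alternatingGroup (Fin n)) := by
      rw [Subgroup.card_map_of_injective hf.inj, hcardT]
    have h3 : T.map f = alternatingGroup (Fin n) :=
      Subgroup.eq_of_le_of_card_ge (by rw [← h1]; exact inf_le_right) (by rw [h2])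
    rw [← h3] at hK
    exact (Subgroup.map_le_map_iff_of_injective hf.inj).1 hK
  refine ⟨f, hf.inj, ?_, Subgroup.map_le_range _ _, Subgroup.map_le_range _ _, ?_, ?_, ?_, ?_, ?_, ?_, ?_, ?_, ?_⟩
  · intro σ hσ
    obtain ⟨g, hg⟩ := hf.alt σ hσ
    exact ⟨g, hg⟩
  · intro heq
    have h1 : H = ⊤ := by
      rw [MonoidHom.range_eq_map] at heq
      exact Subgroup.map_injective hf.inj heq
    exact h.max.1 h1
  · intro M hM1 hM2
    have h1 : H ≤ M.comap f := Subgroup.map_le_iff_le_comap.1 hM1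
    have h2 : (M.comap f).map f = M := Subgroup.map_comap_eq_self hM2
    rcases h.max.le_iff.1 h1 with h3 | h3
    · right
      rw [← h2, h3, MonoidHom.range_eq_map]
    · left
      rw [← h2, h3]
  · intro hA
    exact h.not_le (hfT H hA)
  · intro hA
    exact h0 (hfT B hA)
  · rw [← Subgroup.map_inf _ _ _ hf.inj, h.inf, Subgroup.map_bot]
  · rw [Subgroup.card_map_of_injective hf.inj, Subgroup.card_map_of_injective hf.inj, h.card]
    exact Nat.card_congr (MonoidHom.ofInjective hf.inj).toEquiv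
  · rw [Subgroup.card_map_of_injective hf.inj]
    exact h.large
  · rw [Subgroup.card_map_of_injective hf.inj, Fintype.card_fin]
    intro h1
    apply h.nat
    rw [h1, hcard2]
  · rw [Fintype.card_fin]
    exact hn

end embed

section dich

variable {Ω : Type u} [Fintype Ω] [DecidableEq Ω] {G H B : Subgroup (Perm Ω)}

/-- **The dichotomy.** -/
theorem PEx.dich (h : PEx G H B) :
    (∃ k : ℕ, 2 ≤ k ∧ 2 * k < Fintype.card Ω ∧ Nat.card B = (Fintype.card Ω).choose k ∧
      ∀ b ∈ B, ∀ s : Finset Ω, s.card = k → s.map b.toEmbedding = s → b = 1) ∨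
    ∃ (Γ : Finset Ω) (k : ℕ), Pre G H B Γ k ∧ (k ≤ 3 → Two G H B Γ k) := by
  classical
  have hm := h.deg
  have hnt : Nontrivial Ω := Fintype.one_lt_card_iff_nontrivial.1 (by omega)
  obtain ⟨p, hp, hlt, hle⟩ := exists_prime hm
  have hpG : p ∣ Nat.card G := by
    have h1 : p ∣ Nat.card (alternatingGroup Ω) := by
      have h2 := two_mul_card_alternatingGroup (α := Ω)
      rw [Fintype.card_perm] at h2
      have h3 : p ∣ Nat.factorial (Fintype.card Ω) := hp.dvd_factorial.2 (by omega)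
      rw [← h2, hp.dvd_mul] at h3
      rw [Nat.card_eq_fintype_card]
      rcases h3 with h3 | h3
      · have := (Nat.prime_dvd_prime_iff_eq hp Nat.prime_two).1 h3
        omega
      · exact h3
    exact h1.trans (Subgroup.card_dvd_of_le h.alt)
  -- moving finsets by elements of `G`
  have hmove : ∀ s t : Finset Ω, s.card = t.card → s.card + 2 ≤ Fintype.card Ω → ∃ g ∈ G, g ∈ alternatingGroup Ω ∧ ∀ x ∈ s, g x ∈ t :=
    fun s t hst hs => by
      obtain ⟨g, hg, hgs⟩ := trans_alt hst hs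
      exact ⟨g, h.alt hg, hg, hgs⟩
  have hmap : ∀ (g : Perm Ω) (s t : Finset Ω), s.card = t.card → (∀ x ∈ s, g x ∈ t) → s.map g.toEmbedding = t := by
    intro g s t hst hgs
    apply Finset.eq_of_subset_of_card_le
    · intro y hy
      obtain ⟨x, hx, rfl⟩ := Finset.mem_map.1 hy
      exact hgs x hx
    · rw [Finset.card_map, hst]
  rw [← h.card, hp.dvd_mul] at hpG
  rcases hpG with hpH | hpB
  · -- Case I
    left
    obtain ⟨c, hcH, hcyc, hsup, Γ, hΓ0, hΓp, hHΓ, htr, hfix⟩ := exists_orbit H h.not_alt hp hpH hlt hle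
    have hHeq : H = stab Γ ⊓ G := by
      rcases h.max (stab Γ ⊓ G) (le_inf hHΓ h.hG) inf_le_right with h1 | h1
      · exact h1.symm
      · exfalso
        have h2 : alternatingGroup Ω ≤ stab Γ := h.alt.trans (by rw [← h1]; exact inf_le_left)
        exact not_alt_le_stab hΓ0 (by omega) (by omega) h2
    have hfree : ∀ b ∈ B, ∀ s : Finset Ω, s.card = Γ.card → s.map b.toEmbedding = s → b = 1 := by
      intro b hb s hs hbs
      obtain ⟨g, hg, -, hgs⟩ := hmove Γ s hs.symm (by omega)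
      -- `g⁻¹ b g ∈ H`
      have hgm := hmap g Γ s hs.symm hgs
      have h1 : g⁻¹ * b * g ∈ H := by
        rw [hHeq]
        refine ⟨mem_stab_of fun x hx => ?_, G.mul_mem (G.mul_mem (G.inv_mem hg) (h.bG hb)) hg⟩
        have h2 : b (g x) ∈ s := by
          rw [← hbs]
          exact Finset.mem_map_of_mem b.toEmbedding (hgs x hx)
        rw [← hgm, Finset.mem_map] at h2
        obtain ⟨y, hy, hyb⟩ := h2
        change g⁻¹ (b (g x)) ∈ Γ
        have h3 : g y = b (g x) := hyb
        rw [← h3]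
        have h4 : g⁻¹ (g y) = y := g.symm_apply_apply y
        rw [h4]; exact hy
      have h5 := h.not_conj h1 hg (by
        have : g * (g⁻¹ * b * g) * g⁻¹ = b := by group
        rw [this]; exact hb)
      have h6 : b = g * (g⁻¹ * b * g) * g⁻¹ := by group
      rw [h6, h5]; group
    have hcardB : Nat.card B = (Fintype.card Ω).choose Γ.card := by
      have h1 : Nat.card (Set.powersetCard Ω Γ.card) = (Fintype.card Ω).choose Γ.card := by
        rw [Set.powersetCard.card, Nat.card_eq_fintype_card]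
      rw [← h1]
      apply Nat.card_congr
      refine Equiv.ofBijective (fun b : B => (⟨Γ.map (b : Perm Ω).toEmbedding, by
        change (Γ.map _).card = Γ.card
        rw [Finset.card_map]⟩ : Set.powersetCard Ω Γ.card)) ⟨?_, ?_⟩
      · intro a b hab
        have h2 : Γ.map (a : Perm Ω).toEmbedding = Γ.map (b : Perm Ω).toEmbedding := congrArg Subtype.val hab
        have h3 : ((a : Perm Ω)⁻¹ * b) = 1 := by
          apply hfree _ (B.mul_mem (B.inv_mem a.2) b.2) Γ rfl
          apply hmap _ _ _ rfl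
          intro x hx
          have h4 : (b : Perm Ω) x ∈ Γ.map (a : Perm Ω).toEmbedding := by
            rw [h2]; exact Finset.mem_map_of_mem _ hx
          obtain ⟨y, hy, hyx⟩ := Finset.mem_map.1 h4
          change (a : Perm Ω)⁻¹ ((b : Perm Ω) x) ∈ Γ
          have h5 : (a : Perm Ω) y = (b : Perm Ω) x := hyx
          rw [← h5]
          have h6 : (a : Perm Ω)⁻¹ ((a : Perm Ω) y) = y := (a : Perm Ω).symm_apply_apply y
          rw [h6]; exact hy
        exact Subtype.ext (inv_mul_eq_one.1 h3)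
      · rintro ⟨s, hs⟩
        have hs' : s.card = Γ.card := hs
        obtain ⟨g, hg, -, hgs⟩ := hmove Γ s hs'.symm (by omega)
        obtain ⟨y, hy, x, hx, hyx⟩ := h.exists_mul' hg
        refine ⟨⟨y, hy⟩, Subtype.ext ?_⟩
        change Γ.map y.toEmbedding = s
        apply hmap _ _ _ hs'.symm
        intro z hz
        have h2 : x⁻¹ z ∈ Γ := by
          have := (hHΓ (H.inv_mem hx)) z
          exact this.2 hz
        have h3 := hgs _ h2
        rw [← hyx] at h3
        change y (x (x⁻¹ z)) ∈ s at h3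
        have h4 : x (x⁻¹ z) = z := x.apply_symm_apply z
        rwa [h4] at h3
    refine ⟨Γ.card, ?_, by omega, hcardB, hfree⟩
    by_contra hk
    have h1 : Γ.card = 1 := by
      have := hΓ0.card_pos
      omega
    rw [h1, Nat.choose_one_right] at hcardB
    exact h.nat hcardB
  · -- Case II
    right
    obtain ⟨c, hcB, hcyc, hsup, Γ, hΓ0, hΓp, hBΓ, htr, hfix⟩ := exists_orbit B h.not_altB hp hpB hlt hle
    have hpre : Pre G H B Γ Γ.card := by
      refine { h with cardΓ := rfl, pos := hΓ0.card_pos, lt := by omega, stab := fun b hb x hx => ((hBΓ hb) x).2 hx, hom := ?_ }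
      rw [isPretransitive_iff_base (⟨Γ, rfl⟩ : Set.powersetCard Ω Γ.card)]
      rintro ⟨s, hs⟩
      have hs' : s.card = Γ.card := hs
      obtain ⟨g, hg, -, hgs⟩ := hmove Γ s hs'.symm (by omega)
      obtain ⟨x, hx, y, hy, hxy⟩ := h.exists_mul hg
      refine ⟨⟨x, hx⟩, Subtype.ext ?_⟩
      change x • Γ = s
      have h1 : x • Γ = Γ.map x.toEmbedding := by
        ext z
        simp only [Finset.mem_map, Finset.mem_smul_finset]
        rfl
      rw [h1]
      apply hmap _ _ _ hs'.symm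
      intro z hz
      have h2 : y⁻¹ z ∈ Γ := ((hBΓ (B.inv_mem hy)) z).2 hz
      have h3 := hgs _ h2
      rw [← hxy] at h3
      change x (y (y⁻¹ z)) ∈ s at h3
      have h4 : y (y⁻¹ z) = z := y.apply_symm_apply z
      rwa [h4] at h3
    refine ⟨Γ, Γ.card, hpre, fun hk => ?_⟩
    have halt : ∀ g ∈ alternatingGroup Ω, (∀ x ∈ Γ, g x = x) → g ∈ B := fun g hg hgΓ =>
      alt_le_of_cycle B hBΓ hk hp hlt hle htr hcB hcyc hsup hfix hg hgΓ
    refine { hpre with alt_le := halt, triv := ?_ }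
    intro x hx hxA s hs hxs
    obtain ⟨g, hg, hgA, hgs⟩ := hmove s Γ hs (by omega)
    have hgm := hmap g s Γ hs hgs
    refine h.not_conj hx hg (halt _ ?_ ?_)
    · exact (inferInstance : (alternatingGroup Ω).Normal).conj_mem x hxA g
    · intro z hz
      rw [← hgm, Finset.mem_map] at hz
      obtain ⟨y, hy, rfl⟩ := hz
      change g (x (g⁻¹ (g y))) = g y
      have h1 : g⁻¹ (g y) = y := g.symm_apply_apply y
      rw [h1, hxs y hy]

end dich

end Cfsg.Agent.H454.Reg.Alt
end
end

-- part: H454/Reg/Alt/Affine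
section
prune_inst 0x44030a200000000000020000004100001000040000000400400000312400000080042000910000000002000002001100000404000000400000000000000000040009208010c000000000002000000000000000000000000000000041000000000000
set_option linter.all false
open scoped Cfsg.Agent.FastGrp

/-!
# S3691, alternating socle: `H` has a regular normal elementary abelian subgroup
-/

set_option autoImplicit false

namespace Cfsg.Agent.H454.Reg.Alt

open Equiv MulAction Subgroup
open scoped Pointwise

universe u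

section linear

variable {r : ℕ} [Fact r.Prime] {V : Type u} [AddCommGroup V] [Module (ZMod r) V]

/-- a commutator of transvections -/
theorem comm_transvection {f g : Module.Dual (ZMod r) V} {w u : V} (hfw : f w = 0) (hgu : g u = 0) (hfu : f u = 1)
    (hgw : g w = 0) :
    LinearEquiv.transvection hfw * LinearEquiv.transvection hgu * (LinearEquiv.transvection hfw)⁻¹ *
      (LinearEquiv.transvection hgu)⁻¹ = LinearEquiv.transvection hgw := by
  rw [mul_inv_eq_iff_eq_mul, mul_inv_eq_iff_eq_mul]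
  apply LinearEquiv.ext
  intro x
  simp only [LinearEquiv.mul_apply, LinearEquiv.transvection.apply, map_add, map_smul, smul_add, hgu, hfu, hgw, add_zero,
    zero_smul, one_smul]
  abel

theorem exists_transvection [Finite V] (h30 : 30 ≤ Nat.card V) (hnp : ¬ (Nat.card V).Prime) :
    ∃ σ : V ≃ₗ[ZMod r] V, σ ≠ 1 ∧ (∀ χ : (V ≃ₗ[ZMod r] V) →* ℤˣ, χ σ = 1) ∧
      ∃ s : Finset V, s.card = 3 ∧ ∀ x ∈ s, σ x = x := by
  classical
  have hr : r.Prime := Fact.out
  have hcard : Nat.card V = r ^ Module.finrank (ZMod r) V := by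
    rw [Module.natCard_eq_pow_finrank (K := ZMod r) (V := V), Nat.card_zmod]
  set d := Module.finrank (ZMod r) V with hd
  have hd0 : d ≠ 0 := by
    intro h
    rw [h, pow_zero] at hcard
    omega
  have hd1 : d ≠ 1 := by
    intro h
    rw [h, pow_one] at hcard
    exact hnp (by rw [hcard]; exact hr)
  let b := Module.finBasisOfFinrankEq (ZMod r) V hd.symm
  rcases hr.eq_two_or_odd' with hr2 | hro
  · -- `r = 2`
    have hd5 : 3 ≤ d := by
      by_contra hlt
      have : r ^ d ≤ 2 ^ 2 := by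
        rw [hr2]
        exact Nat.pow_le_pow_right (by norm_num) (by omega)
      omega
    let i0 : Fin d := ⟨0, by omega⟩
    let i1 : Fin d := ⟨1, by omega⟩
    let i2 : Fin d := ⟨2, by omega⟩
    have h01 : i0 ≠ i1 := by simp [i0, i1]
    have h02 : i0 ≠ i2 := by simp [i0, i2]
    have h12 : i1 ≠ i2 := by simp [i1, i2]
    have e : ∀ i j : Fin d, b.coord i (b j) = if j = i then 1 else 0 := fun i j => by
      rw [Module.Basis.coord_apply, Module.Basis.repr_self, Finsupp.single_apply]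
    have hfw : b.coord i0 (b i1) = 0 := by rw [e, if_neg h01.symm]
    have hgu : b.coord i2 (b i0) = 0 := by rw [e, if_neg h02]
    have hfu : b.coord i0 (b i0) = 1 := by rw [e, if_pos rfl]
    have hgw : b.coord i2 (b i1) = 0 := by rw [e, if_neg h12]
    refine ⟨LinearEquiv.transvection hgw, ?_, ?_, {0, b i0, b i1}, ?_, ?_⟩
    · intro h
      have h1 := congrArg (fun s : V ≃ₗ[ZMod r] V => s (b i2)) h
      simp only [LinearEquiv.transvection.apply, LinearEquiv.coe_one, id_eq] at h1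
      rw [e, if_pos rfl, one_smul, add_eq_left] at h1
      exact b.ne_zero i1 h1
    · intro χ
      rw [← comm_transvection hfw hgu hfu hgw, map_mul, map_mul, map_mul, map_inv, map_inv, mul_right_comm,
        mul_inv_cancel_right, mul_inv_cancel]
    · rw [Finset.card_insert_of_notMem, Finset.card_insert_of_notMem, Finset.card_singleton]
      · rw [Finset.mem_singleton]
        exact fun h => h01 (b.injective h)
      · rw [Finset.mem_insert, Finset.mem_singleton]
        rintro (h | h)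
        · exact b.ne_zero i0 h.symm
        · exact b.ne_zero i1 h.symm
    · intro x hx
      rw [Finset.mem_insert, Finset.mem_insert, Finset.mem_singleton] at hx
      rw [LinearEquiv.transvection.apply]
      rcases hx with rfl | rfl | rfl
      · rw [map_zero, zero_smul, add_zero]
      · rw [hgu, zero_smul, add_zero]
      · rw [hgw, zero_smul, add_zero]
  · -- `r` odd
    have hr3 : 3 ≤ r := by
      rcases hro with ⟨j, hj⟩
      have := hr.two_le
      omega
    let i0 : Fin d := ⟨0, by omega⟩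
    let i1 : Fin d := ⟨1, by omega⟩
    have h01 : i0 ≠ i1 := by simp [i0, i1]
    have e : ∀ i j : Fin d, b.coord i (b j) = if j = i then 1 else 0 := fun i j => by
      rw [Module.Basis.coord_apply, Module.Basis.repr_self, Finsupp.single_apply]
    have hfw : b.coord i0 (b i1) = 0 := by rw [e, if_neg h01.symm]
    have h2 : (2 : ZMod r) ≠ 0 := by
      have : ((2 : ℕ) : ZMod r) ≠ 0 := by
        rw [Ne, ZMod.natCast_eq_zero_iff]
        intro h
        have := Nat.le_of_dvd (by norm_num) h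
        omega
      exact_mod_cast this
    have hpow : ∀ n : ℕ, ∀ x, ((LinearEquiv.transvection hfw) ^ n) x = x + (n * b.coord i0 x) • b i1 := by
      intro n
      induction n with
      | zero => intro x; simp
      | succ n ih =>
        intro x
        rw [pow_succ, LinearEquiv.mul_apply, ih, LinearEquiv.transvection.apply, map_add, map_smul, hfw, smul_zero,
          add_zero, add_assoc, ← add_smul]
        congr 2
        push_cast
        ring
    refine ⟨LinearEquiv.transvection hfw, ?_, ?_, {0, b i1, (2 : ZMod r) • b i1}, ?_, ?_⟩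
    · intro h
      have h1 := congrArg (fun s : V ≃ₗ[ZMod r] V => s (b i0)) h
      simp only [LinearEquiv.transvection.apply, LinearEquiv.coe_one, id_eq] at h1
      rw [e, if_pos rfl, one_smul, add_eq_left] at h1
      exact b.ne_zero i1 h1
    · intro χ
      have h1 : (LinearEquiv.transvection hfw) ^ r = 1 := by
        apply LinearEquiv.ext
        intro x
        rw [hpow, CharP.cast_eq_zero, zero_mul, zero_smul, add_zero]
        rfl
      have h3 : χ (LinearEquiv.transvection hfw) ^ r = 1 := by rw [← map_pow, h1, map_one]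
      rcases Int.units_eq_one_or (χ (LinearEquiv.transvection hfw)) with h4 | h4
      · exact h4
      · rw [h4, hro.neg_one_pow] at h3
        exact absurd h3 (by decide)
    · rw [Finset.card_insert_of_notMem, Finset.card_insert_of_notMem, Finset.card_singleton]
      · rw [Finset.mem_singleton]
        intro h
        have h3 : (1 : ZMod r) • b i1 = (2 : ZMod r) • b i1 := by rw [one_smul]; exact h
        have h4 := smul_left_injective (ZMod r) (b.ne_zero i1) h3
        have h5 : (1 : ZMod r) = 0 := by linear_combination -h4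
        exact one_ne_zero h5
      · rw [Finset.mem_insert, Finset.mem_singleton]
        rintro (h | h)
        · exact b.ne_zero i1 h.symm
        · exact (smul_ne_zero h2 (b.ne_zero i1)) h.symm
    · intro x hx
      rw [Finset.mem_insert, Finset.mem_insert, Finset.mem_singleton] at hx
      rw [LinearEquiv.transvection.apply]
      rcases hx with rfl | rfl | rfl
      · rw [map_zero, zero_smul, add_zero]
      · rw [hfw, zero_smul, add_zero]
      · rw [map_smul, hfw, smul_zero, zero_smul, add_zero]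

end linear

section hat

variable {Ω : Type u} [Fintype Ω] [DecidableEq Ω] {V : Subgroup (Perm Ω)}

/-- a regular subgroup is in bijection with the points -/
noncomputable def pt (htr : ∀ x y : Ω, ∃ v ∈ V, v x = y) (hfree : ∀ v ∈ V, ∀ x, v x = x → v = 1) (a : Ω) : V ≃ Ω :=
  Equiv.ofBijective (fun v => (v : Perm Ω) a) ⟨fun u v huv => by
    have h1 : (v : Perm Ω)⁻¹ * u = 1 := by
      apply hfree _ (V.mul_mem (V.inv_mem v.2) u.2) a
      change (v : Perm Ω)⁻¹ ((u : Perm Ω) a) = a
      have h2 : (u : Perm Ω) a = (v : Perm Ω) a := huv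
      rw [h2]
      exact (v : Perm Ω).symm_apply_apply a
    exact Subtype.ext (inv_mul_eq_one.1 h1).symm, fun x => by
    obtain ⟨v, hv, hvx⟩ := htr a x
    exact ⟨⟨v, hv⟩, hvx⟩⟩

omit [Fintype Ω] [DecidableEq Ω] in
theorem pt_apply (htr : ∀ x y : Ω, ∃ v ∈ V, v x = y) (hfree : ∀ v ∈ V, ∀ x, v x = x → v = 1) (a : Ω) (v : V) :
    pt htr hfree a v = (v : Perm Ω) a := rfl

/-- the permutation of the points induced by an automorphism of a regular subgroup -/
noncomputable def hat (htr : ∀ x y : Ω, ∃ v ∈ V, v x = y) (hfree : ∀ v ∈ V, ∀ x, v x = x → v = 1) (a : Ω) :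
    MulAut V →* Perm Ω :=
  (pt htr hfree a).permCongrHom.toMonoidHom.comp (MulAut.toPerm V)

omit [Fintype Ω] [DecidableEq Ω] in
theorem hat_apply (htr : ∀ x y : Ω, ∃ v ∈ V, v x = y) (hfree : ∀ v ∈ V, ∀ x, v x = x → v = 1) (a : Ω) (σ : MulAut V)
    (v : V) : hat htr hfree a σ ((v : Perm Ω) a) = ((σ v : V) : Perm Ω) a := by
  change (pt htr hfree a) (σ ((pt htr hfree a).symm ((v : Perm Ω) a))) = _
  rw [← pt_apply htr hfree a v, Equiv.symm_apply_apply, pt_apply]

omit [Fintype Ω] [DecidableEq Ω] in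
theorem hat_mem (htr : ∀ x y : Ω, ∃ v ∈ V, v x = y) (hfree : ∀ v ∈ V, ∀ x, v x = x → v = 1) (a : Ω) (σ : MulAut V) :
    hat htr hfree a σ ∈ normalizer (V : Set (Perm Ω)) := by
  have key : ∀ (σ : MulAut V) (v : V), hat htr hfree a σ * (v : Perm Ω) * (hat htr hfree a σ)⁻¹ = ((σ v : V) : Perm Ω) := by
    intro σ v
    rw [mul_inv_eq_iff_eq_mul]
    ext x
    obtain ⟨u, rfl⟩ := (pt htr hfree a).surjective x
    rw [pt_apply]
    change hat htr hfree a σ ((v : Perm Ω) ((u : Perm Ω) a)) = ((σ v : V) : Perm Ω) (hat htr hfree a σ ((u : Perm Ω) a))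
    rw [hat_apply]
    have h1 : (v : Perm Ω) ((u : Perm Ω) a) = ((v * u : V) : Perm Ω) a := rfl
    rw [h1, hat_apply, map_mul]
    rfl
  rw [Subgroup.mem_normalizer_iff]
  intro x
  constructor
  · intro hx
    rw [key σ ⟨x, hx⟩]
    exact (σ ⟨x, hx⟩).2
  · intro hx
    have h1 := key σ⁻¹ ⟨_, hx⟩
    rw [map_inv, inv_inv] at h1
    have h2 : (hat htr hfree a σ)⁻¹ * (hat htr hfree a σ * x * (hat htr hfree a σ)⁻¹) * hat htr hfree a σ = x := by group
    rw [← h2]
    have h3 : (hat htr hfree a σ)⁻¹ * ((⟨_, hx⟩ : V) : Perm Ω) * hat htr hfree a σ ∈ V := by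
      rw [h1]; exact (σ⁻¹ ⟨_, hx⟩).2
    exact h3

omit [Fintype Ω] [DecidableEq Ω] in
theorem hat_injective (htr : ∀ x y : Ω, ∃ v ∈ V, v x = y) (hfree : ∀ v ∈ V, ∀ x, v x = x → v = 1) (a : Ω) :
    Function.Injective (hat htr hfree a) := by
  rw [injective_iff_map_eq_one]
  intro σ hσ
  apply MulEquiv.ext
  intro v
  have h1 := hat_apply htr hfree a σ v
  rw [hσ] at h1
  exact ((pt htr hfree a).injective (by rw [pt_apply, pt_apply]; exact h1)).symm

/-- a regular subgroup is not normalised by the alternating group -/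
theorem not_alt_le_normalizer (h5 : 5 ≤ Fintype.card Ω) (htr : ∀ x y : Ω, ∃ v ∈ V, v x = y)
    (hfree : ∀ v ∈ V, ∀ x, v x = x → v = 1) : ¬ alternatingGroup Ω ≤ normalizer (V : Set (Perm Ω)) := by
  intro hle
  have hnt : Nontrivial Ω := Fintype.one_lt_card_iff_nontrivial.1 (by omega)
  obtain ⟨a⟩ : Nonempty Ω := inferInstance
  have hcard : Nat.card V = Fintype.card Ω := by
    rw [Nat.card_congr (pt htr hfree a), Nat.card_eq_fintype_card]
  have hs : IsSimpleGroup (alternatingGroup Ω) := alternatingGroup.isSimpleGroup (by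
    rw [Nat.card_eq_fintype_card]; exact h5)
  have hn : (V.subgroupOf (alternatingGroup Ω)).Normal := by
    constructor
    intro n hn g
    exact (Subgroup.mem_normalizer_iff.1 (hle g.2) (n : Perm Ω)).1 hn
  rcases hn.eq_bot_or_eq_top with h1 | h1
  · -- the sign is injective on `V`
    have h2 : Nat.card V ≤ Nat.card ℤˣ := by
      let f : V →* ℤˣ := Perm.sign.comp V.subtype
      have hf : Function.Injective f := by
        rw [injective_iff_map_eq_one]
        intro v hv
        have h3 : (⟨(v : Perm Ω), Perm.mem_alternatingGroup.2 hv⟩ : alternatingGroup Ω) ∈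
            V.subgroupOf (alternatingGroup Ω) := v.2
        rw [h1, Subgroup.mem_bot] at h3
        have h4 : (v : Perm Ω) = 1 := congrArg Subtype.val h3
        exact Subtype.ext h4
      exact Nat.card_le_card_of_injective f hf
    have h3 : Nat.card ℤˣ = 2 := by rw [Nat.card_eq_fintype_card]; rfl
    omega
  · have h2 := Subgroup.subgroupOf_eq_top.1 h1
    have h3 := Subgroup.card_le_of_le h2
    rw [hcard, Nat.card_eq_fintype_card] at h3
    have h4 := two_mul_card_alternatingGroup (α := Ω)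
    rw [Fintype.card_perm] at h4
    have h5' : ∀ n, 5 ≤ n → 2 * n < Nat.factorial n := by
      intro n hn
      induction n, hn using Nat.le_induction with
      | base => decide
      | succ n hn ih =>
        rw [Nat.factorial_succ]
        nlinarith only [hn, ih]
    have := h5' _ h5
    omega

end hat

section affine

variable {Ω : Type u} [Fintype Ω] [DecidableEq Ω] {G H B : Subgroup (Perm Ω)} {Γ : Finset Ω} {k : ℕ}

/-- `H` contains the normaliser in `G` of its normal subgroup `V`, if `V` is not normalised by `Alt(Ω)` -/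
theorem PEx.normalizer_le (h : PEx G H B) {V : Subgroup (Perm Ω)} (hVH : ∀ x ∈ H, ∀ v ∈ V, x * v * x⁻¹ ∈ V)
    (hn : ¬ alternatingGroup Ω ≤ normalizer (V : Set (Perm Ω))) {g : Perm Ω} (hg : g ∈ normalizer (V : Set (Perm Ω)))
    (hgG : g ∈ G) : g ∈ H := by
  have hle : H ≤ normalizer (V : Set (Perm Ω)) ⊓ G := by
    refine le_inf (fun x hx => ?_) h.hG
    rw [Subgroup.mem_normalizer_iff]
    intro v
    refine ⟨fun hv => hVH x hx v hv, fun hv => ?_⟩
    have h1 := hVH x⁻¹ (H.inv_mem hx) _ hv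
    have h2 : x⁻¹ * (x * v * x⁻¹) * x⁻¹⁻¹ = v := by group
    rwa [h2] at h1
  rcases h.max _ hle inf_le_right with h1 | h1
  · rw [← h1]; exact ⟨hg, hgG⟩
  · exfalso
    apply hn
    refine h.alt.trans ?_
    rw [← h1]
    exact inf_le_left

theorem Two.affine (h : Two G H B Γ k) (hk : k ≤ 3) {V : Subgroup (Perm Ω)}
    (hVH : ∀ x ∈ H, ∀ v ∈ V, x * v * x⁻¹ ∈ V) (hcomm : ∀ u ∈ V, ∀ v ∈ V, u * v = v * u) {r : ℕ} (hr : r.Prime)
    (hexp : ∀ v ∈ V, v ^ r = 1) (htr : ∀ x y : Ω, ∃ v ∈ V, v x = y) (hfree : ∀ v ∈ V, ∀ x, v x = x → v = 1) :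
    k = 2 ∧ (Fintype.card Ω).Prime ∧
      ∃ ι : Perm Ω, ι * ι = 1 ∧ (∃ a, ∀ x, ι x = x ↔ x = a) ∧ (ι ∈ G → ι ∈ H) := by
  classical
  have hm := h.deg
  have := Fact.mk hr
  have hnt : Nontrivial Ω := Fintype.one_lt_card_iff_nontrivial.1 (by omega)
  obtain ⟨a⟩ : Nonempty Ω := inferInstance
  have hcardV : Nat.card V = Fintype.card Ω := by
    rw [Nat.card_congr (pt htr hfree a), Nat.card_eq_fintype_card]
  have hHn : ∀ g ∈ normalizer (V : Set (Perm Ω)), g ∈ G → g ∈ H := fun g hg hgG =>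
    h.normalizer_le hVH (not_alt_le_normalizer (by omega) htr hfree) hg hgG
  -- the additive group
  obtain ⟨W, _, _, ⟨e⟩⟩ : ∃ (W : Type u) (_ : AddCommGroup W) (_ : Module (ZMod r) W), Nonempty (V ≃* Multiplicative W) := by
    let _ : CommGroup V := { (inferInstance : Group V) with mul_comm := fun u v => Subtype.ext (hcomm u u.2 v v.2) }
    let _ : Module (ZMod r) (Additive V) := AddCommGroup.zmodModule (n := r) (G := Additive V) fun v => by
      change Additive.ofMul ((Additive.toMul v) ^ r) = 0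
      have : (Additive.toMul v) ^ r = 1 := Subtype.ext (hexp _ (Additive.toMul v).2)
      rw [this]; rfl
    exact ⟨Additive V, inferInstance, inferInstance, ⟨MulEquiv.refl V⟩⟩
  have hfinW : Finite W := Finite.of_equiv V (e.toEquiv.trans Multiplicative.toAdd)
  have hcardW : Nat.card W = Fintype.card Ω := by
    rw [← hcardV]; exact (Nat.card_congr (e.toEquiv.trans Multiplicative.toAdd)).symm
  let q : W ≃ Ω := (Multiplicative.ofAdd.trans e.symm.toEquiv).trans (pt htr hfree a)
  have hq0 : q 0 = a := by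
    change ((e.symm (Multiplicative.ofAdd 0) : V) : Perm Ω) a = a
    rw [ofAdd_zero, map_one]; rfl
  let tm : (W ≃ₗ[ZMod r] W) →* MulAut V :=
    { toFun := fun σ => (e.trans (AddEquiv.toMultiplicative σ.toAddEquiv)).trans e.symm
      map_one' := by
        apply MulEquiv.ext; intro v
        exact e.symm_apply_apply v
      map_mul' := fun σ τ => by
        apply MulEquiv.ext; intro v
        change e.symm _ = e.symm (Multiplicative.ofAdd (σ (Multiplicative.toAdd (e (e.symm _)))))
        rw [e.apply_symm_apply]; rfl }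
  let ψ : (W ≃ₗ[ZMod r] W) →* Perm Ω := (hat htr hfree a).comp tm
  have hψ : ∀ σ (v : W), ψ σ (q v) = q (σ v) := fun σ v => by
    change hat htr hfree a (tm σ) (((e.symm (Multiplicative.ofAdd v) : V) : Perm Ω) a) = _
    rw [hat_apply]
    change ((e.symm (Multiplicative.ofAdd (σ (Multiplicative.toAdd (e (e.symm (Multiplicative.ofAdd v)))))) : V) : Perm Ω) a = _
    rw [e.apply_symm_apply]; rfl
  have hψinj : Function.Injective ψ := by
    rw [injective_iff_map_eq_one]
    intro σ hσ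
    apply LinearEquiv.ext
    intro v
    have h1 := hψ σ v
    rw [hσ] at h1
    exact (q.injective h1).symm
  have hψH : ∀ σ, Perm.sign (ψ σ) = 1 → ψ σ ∈ H := fun σ hσ =>
    hHn _ (hat_mem htr hfree a (tm σ)) (h.alt (Perm.mem_alternatingGroup.2 hσ))
  -- `m` is prime
  have hprime : (Fintype.card Ω).Prime := by
    by_contra hnp
    obtain ⟨σ, hσ1, hχ, s, hs3, hs⟩ := exists_transvection (r := r) (V := W) (by rw [hcardW]; exact hm)
      (by rw [hcardW]; exact hnp)
    obtain ⟨t, hts, htk⟩ := Finset.exists_subset_card_eq (s := s.image q)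
      (n := k) (by rw [Finset.card_image_of_injective _ q.injective, hs3]; exact hk)
    have h1 : ψ σ = 1 := by
      refine h.triv _ (hψH σ (hχ (Perm.sign.comp ψ))) (Perm.mem_alternatingGroup.2 (hχ (Perm.sign.comp ψ))) t htk ?_
      intro x hx
      obtain ⟨v, hv, rfl⟩ := Finset.mem_image.1 (hts hx)
      rw [hψ, hs v hv]
    exact hσ1 (hψinj (by rw [h1, map_one]))
  have hr30 : r = Fintype.card Ω := by
    have hntV : Nontrivial V := by
      rw [← Finite.one_lt_card_iff_nontrivial, hcardV]; omega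
    obtain ⟨v, hv⟩ := exists_ne (1 : V)
    have h1 : orderOf v ∣ r := orderOf_dvd_of_pow_eq_one (Subtype.ext (hexp v v.2))
    have h2 : orderOf v ∣ Fintype.card Ω := by rw [← hcardV]; exact _root_.orderOf_dvd_natCard v
    have h3 : orderOf v ≠ 1 := fun h4 => hv (orderOf_eq_one_iff.1 h4)
    rcases (Nat.dvd_prime hr).1 h1 with h4 | h4
    · exact absurd h4 h3
    · rcases (Nat.dvd_prime hprime).1 h2 with h5 | h5
      · exact absurd h5 h3
      · rw [← h4, ← h5]
  have hne : ∀ n : ℕ, 0 < n → n < 30 → (n : ZMod r) ≠ 0 := by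
    intro n h1 h2 h3
    rw [ZMod.natCast_eq_zero_iff] at h3
    have := Nat.le_of_dvd h1 h3
    omega
  have hntA : Nontrivial W := by
    rw [← Finite.one_lt_card_iff_nontrivial, hcardW]; omega
  have hk1 : k ≠ 1 := by
    rintro rfl
    have h2 : (2 : ZMod r) ≠ 0 := by exact_mod_cast hne 2 (by norm_num) (by norm_num)
    have h3 : (3 : ZMod r) ≠ 0 := by exact_mod_cast hne 3 (by norm_num) (by norm_num)
    set τ : W ≃ₗ[ZMod r] W := LinearEquiv.smulOfNeZero (ZMod r) (W) (2 : ZMod r) h2 with hτ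
    have hsign : Perm.sign (ψ (τ * τ)) = 1 := by
      rw [map_mul, map_mul]
      exact Int.units_mul_self _
    have h1 : ψ (τ * τ) = 1 := by
      refine h.triv _ (hψH _ hsign) (Perm.mem_alternatingGroup.2 hsign) {a} (Finset.card_singleton a) ?_
      intro x hx
      rw [Finset.mem_singleton] at hx
      rw [hx, ← hq0, hψ, map_zero]
    have h4 : τ * τ = 1 := hψinj (by rw [h1, map_one])
    obtain ⟨v, hv⟩ := exists_ne (0 : W)
    have h5 : (2 : ZMod r) • (2 : ZMod r) • v = v := congrArg (fun f : W ≃ₗ[ZMod r] W => f v) h4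
    have h6 : (3 : ZMod r) • v = 0 := by
      have h7 : (3 : ZMod r) • v + v = (2 : ZMod r) • (2 : ZMod r) • v := by
        rw [smul_smul]
        nth_rewrite 2 [← one_smul (ZMod r) v]
        rw [← add_smul]
        congr 1
        norm_num
      rw [h5, add_eq_right] at h7
      exact h7
    exact (smul_ne_zero h3 hv) h6
  have hk3 : k ≠ 3 := by
    rintro rfl
    -- `|H| ≤ m ^ 2`
    have hntV : Nontrivial V := by
      rw [← Finite.one_lt_card_iff_nontrivial, hcardV]; omega
    obtain ⟨v, hv⟩ := exists_ne (1 : V)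
    have hgen : ∀ u ∈ V, u ∈ zpowers (v : Perm Ω) := by
      intro u hu
      have hp : (Nat.card V).Prime := by rw [hcardV]; exact hprime
      have := Fact.mk hp
      have h1 : zpowers v = ⊤ := zpowers_eq_top_of_prime_card (p := Nat.card V) rfl hv
      have h2 : (⟨u, hu⟩ : V) ∈ zpowers v := by rw [h1]; trivial
      obtain ⟨n, hn⟩ := h2
      exact ⟨n, congrArg Subtype.val hn⟩
    have hle : Nat.card H ≤ Fintype.card Ω * Fintype.card Ω := by
      rw [← Fintype.card_prod, ← Nat.card_eq_fintype_card]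
      refine Nat.card_le_card_of_injective (fun x : H => ((x : Perm Ω) a, (x : Perm Ω) ((v : Perm Ω) a))) ?_
      intro x y hxy
      obtain ⟨h1, h2⟩ := Prod.mk.inj hxy
      set z : Perm Ω := (x : Perm Ω)⁻¹ * y with hz
      have hzH : z ∈ H := H.mul_mem (H.inv_mem x.2) y.2
      have hza : z a = a := by
        change (x : Perm Ω)⁻¹ ((y : Perm Ω) a) = a
        rw [← h1]
        exact (x : Perm Ω).symm_apply_apply a
      have hzb : z ((v : Perm Ω) a) = (v : Perm Ω) a := by
        change (x : Perm Ω)⁻¹ ((y : Perm Ω) ((v : Perm Ω) a)) = _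
        rw [← h2]
        exact (x : Perm Ω).symm_apply_apply _
      have hzv : z * v * z⁻¹ = v := by
        have h3 : z⁻¹ a = a := by
          have := z.symm_apply_apply a
          rw [hza] at this
          exact this
        have h4 := (pt htr hfree a).injective (a₁ := ⟨z * v * z⁻¹, hVH z hzH v v.2⟩) (a₂ := v) (by
          rw [pt_apply, pt_apply]
          change z ((v : Perm Ω) (z⁻¹ a)) = _
          rw [h3, hzb])
        exact congrArg Subtype.val h4
      have hzv' : z * v = v * z := mul_inv_eq_iff_eq_mul.1 hzv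
      have hz1 : z = 1 := by
        ext w
        obtain ⟨u, hu, rfl⟩ := htr a w
        obtain ⟨n, rfl⟩ := hgen u hu
        have h5 : Commute z ((v : Perm Ω) ^ n) := (show Commute z (v : Perm Ω) from hzv').zpow_right n
        change z (((v : Perm Ω) ^ n) a) = ((v : Perm Ω) ^ n) a
        have h6 : z (((v : Perm Ω) ^ n) a) = ((v : Perm Ω) ^ n) (z a) := congrArg (fun f : Perm Ω => f a) h5
        rw [h6, hza]
      have h7 : (x : Perm Ω) = y := inv_mul_eq_one.1 (by rw [← hz]; exact hz1)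
      exact Subtype.ext h7
    have hge : (Fintype.card Ω).choose 3 ≤ Nat.card H := by
      have h1 : Nat.card (Set.powersetCard Ω 3) = (Fintype.card Ω).choose 3 := by
        rw [Set.powersetCard.card, Nat.card_eq_fintype_card]
      rw [← h1]
      have := h.hom
      refine Nat.card_le_card_of_surjective (fun x : H => x • (⟨Γ, h.cardΓ⟩ : Set.powersetCard Ω 3)) ?_
      intro s
      exact this.exists_smul_eq _ s
    have h3 := Nat.descFactorial_eq_factorial_mul_choose (Fintype.card Ω) 3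
    obtain ⟨j, hj⟩ := Nat.exists_eq_add_of_le hm
    rw [hj] at h3 hge hle
    have h4 : (30 + j).descFactorial 3 = (30 + j) * (29 + j) * (28 + j) := by
      simp only [Nat.descFactorial]
      have e1 : 30 + j - 2 = 28 + j := by omega
      have e2 : 30 + j - 1 = 29 + j := by omega
      rw [e1, e2]; simp; ring
    rw [h4] at h3
    have h5 : Nat.factorial 3 = 6 := rfl
    rw [h5] at h3
    nlinarith only [hle, hge, h3]
  have hk2 : k = 2 := by
    have := h.pos
    omega
  refine ⟨hk2, hprime, ?_⟩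
  have hm1 : (-1 : ZMod r) ≠ 0 := neg_ne_zero.2 one_ne_zero
  set τ : W ≃ₗ[ZMod r] W := LinearEquiv.smulOfNeZero (ZMod r) (W) (-1 : ZMod r) hm1 with hτ
  have hττ : τ * τ = 1 := by
    apply LinearEquiv.ext
    intro v
    change (-1 : ZMod r) • (-1 : ZMod r) • v = v
    rw [smul_smul, neg_one_mul, neg_neg, one_smul]
  refine ⟨ψ τ, by rw [← map_mul, hττ, map_one], ⟨a, fun x => ?_⟩, fun hG => hHn _ (hat_mem htr hfree a (tm τ)) hG⟩
  obtain ⟨u, hu⟩ := q.surjective x
  rw [← hu, hψ, q.injective.eq_iff]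
  constructor
  · intro h2
    have h4 : (-1 : ZMod r) • u = u := h2
    have h5 : (2 : ZMod r) • u = 0 := by
      have h6 : (2 : ZMod r) = 1 - (-1) := by norm_num
      rw [h6, sub_smul, one_smul, h4, sub_self]
    have h2' : (2 : ZMod r) ≠ 0 := by exact_mod_cast hne 2 (by norm_num) (by norm_num)
    have h7 : u = 0 := by
      rcases smul_eq_zero.1 h5 with h8 | h8
      · exact absurd h8 h2'
      · exact h8
    rw [h7, hq0]
  · intro hx
    have h3 : u = 0 := q.injective (by rw [hx, hq0])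
    rw [h3, map_zero]

end affine

end Cfsg.Agent.H454.Reg.Alt

private theorem dce_acc43e7ffdf8 : _root_.True := by
  try have : _root_.True := by simp only [_root_.Cfsg.Agent.H454.Reg.Alt.hat.congr_simp]
  exact _root_.True.intro
end

-- part: H294/Rl/Size
section
set_option linter.all false
open scoped Cfsg.Agent.FastGrp

/-!
# S3691, `PSL_n(q)`: sizes (helper294, task PSL-15)

* `sl_ge` : `q ^ (n² - 1) ≤ 2 |SL_n(q)|`;
* `q_ge` : lower bounds for `q`.
-/

set_option autoImplicit false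

namespace Cfsg.Agent.H294.Rl

open Cfsg Cfsg.Geo Matrix Module Cfsg.Agent.H454.Reg
open scoped MatrixGroups

universe u

/-- the order of `GL_m(q)` -/
def PG (q m : ℕ) : ℕ := ∏ i ∈ Finset.range m, (q ^ m - q ^ i)

theorem PG_succ (q m : ℕ) : PG q (m + 1) = (q ^ (m + 1) - 1) * (q ^ m * PG q m) := by
  unfold PG
  rw [Finset.prod_range_succ', pow_zero, mul_comm]
  congr 1
  have h : ∀ i ∈ Finset.range m, q ^ (m + 1) - q ^ (i + 1) = q * (q ^ m - q ^ i) := by
    intro i _
    rw [Nat.mul_sub, pow_succ', pow_succ']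
  rw [Finset.prod_congr rfl h, Finset.prod_mul_distrib, Finset.prod_const, Finset.card_range]

theorem PG_ge {q : ℕ} (hq : 2 ≤ q) : ∀ m : ℕ, 1 ≤ m →
    (q - 1) * q ^ (m ^ 2 - 1) * (q ^ m + 2) ≤ 2 * q ^ m * PG q m := by
  intro m hm
  induction m, hm using Nat.le_induction with
  | base =>
    have h1 : PG q 1 = q - 1 := by simp [PG]
    rw [h1, pow_one, one_pow, Nat.sub_self, pow_zero, mul_one]
    calc (q - 1) * (q + 2) ≤ (q - 1) * (2 * q) := Nat.mul_le_mul_left _ (by omega)
      _ = _ := by ring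
  | succ m hm ih =>
    have hA : 2 ≤ q ^ m := by
      calc 2 ≤ q := hq
        _ = q ^ 1 := (pow_one q).symm
        _ ≤ q ^ m := Nat.pow_le_pow_right (by omega) hm
    have h1 : q ^ m * (q ^ (m + 1) + 2) ≤ (q ^ (m + 1) - 1) * (q ^ m + 2) := by
      rw [pow_succ]
      generalize q ^ m = A at hA
      have h2 : 2 * A ≤ A * q := by rw [mul_comm 2 A]; exact Nat.mul_le_mul_left _ hq
      obtain ⟨B, hB⟩ : ∃ B, A * q = B + 1 := ⟨A * q - 1, by omega⟩
      rw [hB, Nat.add_sub_cancel]
      nlinarith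
    have e1 : (m + 1) ^ 2 - 1 = (m ^ 2 - 1) + (m + 1) + m := by
      have : 1 ≤ m ^ 2 := Nat.one_le_pow _ _ hm
      have : (m + 1) ^ 2 = m ^ 2 + 2 * m + 1 := by ring
      omega
    rw [PG_succ, e1]
    calc (q - 1) * q ^ ((m ^ 2 - 1) + (m + 1) + m) * (q ^ (m + 1) + 2)
        = (q - 1) * q ^ (m ^ 2 - 1) * q ^ (m + 1) * (q ^ m * (q ^ (m + 1) + 2)) := by rw [pow_add, pow_add]; ring
      _ ≤ (q - 1) * q ^ (m ^ 2 - 1) * q ^ (m + 1) * ((q ^ (m + 1) - 1) * (q ^ m + 2)) := Nat.mul_le_mul_left _ h1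
      _ = (q ^ (m + 1) * (q ^ (m + 1) - 1)) * ((q - 1) * q ^ (m ^ 2 - 1) * (q ^ m + 2)) := by ring
      _ ≤ (q ^ (m + 1) * (q ^ (m + 1) - 1)) * (2 * q ^ m * PG q m) := Nat.mul_le_mul_left _ ih
      _ = _ := by ring

theorem PG_ge' {q : ℕ} (hq : 2 ≤ q) {m : ℕ} (hm : 1 ≤ m) : (q - 1) * q ^ (m ^ 2 - 1) ≤ 2 * PG q m := by
  have h1 := PG_ge hq m hm
  have hA : 0 < q ^ m := Nat.pow_pos (by omega)
  refine Nat.le_of_mul_le_mul_right ?_ hA
  calc (q - 1) * q ^ (m ^ 2 - 1) * q ^ m ≤ (q - 1) * q ^ (m ^ 2 - 1) * (q ^ m + 2) := Nat.mul_le_mul_left _ (by omega)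
    _ ≤ _ := h1
    _ = _ := by ring

section
variable {F : Type} [Field F] [Fintype F] {n : ℕ}

theorem card_sl_mul (hn : 1 ≤ n) : Nat.card (specialLinear (Fin n) F) * (Fintype.card F - 1) = PG (Fintype.card F) n := by
  have : Nonempty (Fin n) := ⟨⟨0, hn⟩⟩
  have h1 := (Matrix.GeneralLinearGroup.det : GL (Fin n) F →* Fˣ).ker.card_eq_card_quotient_mul_card_subgroup
  have h2 : Nat.card (GL (Fin n) F ⧸ (Matrix.GeneralLinearGroup.det : GL (Fin n) F →* Fˣ).ker) = Nat.card Fˣ :=
    Nat.card_congr (QuotientGroup.quotientKerEquivOfSurjective _ Matrix.GeneralLinearGroup.det_surjective).toEquiv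
  rw [h2, Nat.card_units, Nat.card_eq_fintype_card (α := F), Matrix.card_GL_field,
    Fin.prod_univ_eq_prod_range (fun i => Fintype.card F ^ n - Fintype.card F ^ i) n] at h1
  rw [PG, h1, mul_comm]
  rfl

/-- PSL-15: lower bound -/
theorem sl_ge (hn : 2 ≤ n) : Fintype.card F ^ (n ^ 2 - 1) ≤ 2 * Nat.card (specialLinear (Fin n) F) := by
  have hq : 2 ≤ Fintype.card F := Fintype.one_lt_card
  have h1 := PG_ge' hq (m := n) (by omega)
  rw [← card_sl_mul (F := F) (by omega)] at h1
  refine Nat.le_of_mul_le_mul_left ?_ (show 0 < Fintype.card F - 1 by omega)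
  calc _ ≤ _ := h1
    _ = _ := by ring

/-- PSL-15': sizes -/
theorem q_ge {G : Type u} [Group G] [Finite G] {T X Y : Subgroup G} (h : Fac T X Y) (hn : 3 ≤ n)
    (e : T ≃* Matrix.ProjectiveSpecialLinearGroup (Fin n) F) :
    (n = 3 → 8000 < Fintype.card F) ∧ (n = 4 → 121 < Fintype.card F) ∧ (n = 5 → 20 ≤ Fintype.card F) ∧ (n = 6 → 8 ≤ Fintype.card F) ∧
    (n = 7 → 5 ≤ Fintype.card F) ∧ (n = 8 → 4 ≤ Fintype.card F) ∧ (n = 9 → 3 ≤ Fintype.card F) ∧ (n = 10 → 3 ≤ Fintype.card F) := by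
  have h1 := Cfsg.Agent.H370.Rg.psl_ge h.large (Cfsg.Agent.H262.Rx.named_psl (by omega) (by omega) e)
  obtain ⟨-, h3, h4, h5, h6, h7, h8, h10⟩ := h1
  refine ⟨fun h => ?_, fun h => ?_, fun h => ?_, fun h => ?_, fun h => ?_, fun h => ?_, fun h => ?_, fun h => ?_⟩
  · have := h3 h; omega
  · have := h4 h; omega
  · have := h5 h; omega
  · have := h6 h; omega
  · have := h7 h; omega
  · have := h8 h; omega
  · have := h10 (by omega); omega
  · have := h10 (by omega); omega

end

end Cfsg.Agent.H294.Rl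

private theorem dce_83de69cb24b4 : _root_.True := by
  try have : _root_.True := by simp only [_root_.Cfsg.Agent.H294.Rl.PG.eq_1]
  exact _root_.True.intro
end

-- part: H70/Rg/Primes
section
set_option linter.all false
open scoped Cfsg.Agent.FastGrp

/-!
# S3691 (T6): large primes of the orthogonal groups (helper70)
-/

set_option autoImplicit false

namespace Cfsg.Agent.H70.Rg

open Module QuadraticMap Cfsg Cfsg.Geo Cfsg.Agent.LieClassical.OrthCore
  Cfsg.Agent.H955 Cfsg.Agent.H954.TSing Cfsg.Agent.H884.El Cfsg.Agent.H851.Dg Cfsg.Agent.H193.Dg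
  Cfsg.Agent.LieClassical.OmegaReindex
open Cfsg.Agent.H951 (fx cm Inv)
open scoped MatrixGroups Matrix

universe u v

/-! ### numbers -/

section num

variable {q k r : ℕ}

theorem not_dvd_gcd (h : PP q k r) (hk : 3 ≤ k) (x : ℕ) : ¬ r ∣ Nat.gcd 4 x := by
  intro h1
  have h2 : r ∣ 2 ^ 2 := h1.trans (Nat.gcd_dvd_left 4 x)
  have h3 := Nat.le_of_dvd (by norm_num) (h.prime.dvd_of_dvd_pow h2)
  have h4 := h.lt (by omega)
  omega

theorem fac_zero (h : PP q k r) (hq : 2 ≤ q) {i : ℕ} (hi : ¬ k ∣ i) : (q ^ i - 1).factorization r = 0 :=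
  Nat.factorization_eq_zero_of_not_dvd fun h1 => hi ((h.dvd_iff (by omega) i).1 h1)

theorem pow_sub_ne (hq : 2 ≤ q) {i : ℕ} (hi : i ≠ 0) : q ^ i - 1 ≠ 0 := by
  have := Nat.one_lt_pow hi (by omega : 1 < q)
  omega

theorem fac_prod_zero (h : PP q k r) (hq : 2 ≤ q) {n : ℕ} (hn : ∀ i, 1 ≤ i → i ≤ n → ¬ k ∣ 2 * i) :
    (∏ i ∈ Finset.range n, (q ^ (2 * (i + 1)) - 1)).factorization r = 0 := by
  rw [Nat.factorization_prod_apply fun i _ => pow_sub_ne hq (by omega)]
  refine Finset.sum_eq_zero fun i hi => fac_zero h hq (hn (i + 1) (by omega) ?_)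
  rw [Finset.mem_range] at hi
  omega

theorem fac_prod (h : PP q k r) (hq : 2 ≤ q) {n j : ℕ} (hk : k = 2 * j) (hj : 1 ≤ j) (hjn : j ≤ n) (hn : n < 2 * j) :
    (∏ i ∈ Finset.range n, (q ^ (2 * (i + 1)) - 1)).factorization r = (q ^ k - 1).factorization r := by
  rw [Nat.factorization_prod_apply fun i _ => pow_sub_ne hq (by omega)]
  rw [Finset.sum_eq_single (j - 1)]
  · rw [Nat.sub_add_cancel hj, hk]
  · intro i hi hij
    rw [Finset.mem_range] at hi
    refine fac_zero h hq ?_
    rw [hk]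
    intro h1
    have h2 : j ∣ i + 1 := Nat.dvd_of_mul_dvd_mul_left (by norm_num) h1
    obtain ⟨c, hc⟩ := h2
    have hc1 : c < 2 := by
      by_contra hcon
      push Not at hcon
      have := Nat.mul_le_mul_left j hcon
      omega
    have hc0 : c ≠ 0 := by rintro rfl; omega
    obtain rfl : c = 1 := by omega
    omega
  · intro h1
    rw [Finset.mem_range] at h1
    omega

theorem dvd_prod (h : PP q k r) (hq : 2 ≤ q) (hk : 1 ≤ k) {n : ℕ} (hn : k ≤ n) :
    r ∣ ∏ i ∈ Finset.range n, (q ^ (2 * (i + 1)) - 1) := by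
  refine dvd_trans ((h.dvd_iff (by omega) (2 * k)).2 (Dvd.intro_left 2 rfl)) ?_
  have h1 := Finset.dvd_prod_of_mem (fun i => q ^ (2 * (i + 1)) - 1) (Finset.mem_range.2 (by omega : k - 1 < n))
  simp only [Nat.sub_add_cancel hk] at h1
  exact h1

theorem sq_sub (q m : ℕ) : q ^ (2 * m) - 1 = (q ^ m + 1) * (q ^ m - 1) := by
  have := Nat.sq_sub_sq (q ^ m) 1
  rw [one_pow, ← pow_mul, mul_comm m 2] at this
  exact this

end num

/-! ### cyclic subgroups -/

section cyc

variable {ι : Type} [Fintype ι] [DecidableEq ι] {F : Type u} [Field F] [Fintype F] {Q : QuadraticForm F (ι → F)}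

theorem cyc_all {k r : ℕ} (hr : PP (Nat.card F) k r) (hk3 : 3 ≤ k) (hn : Fintype.card ι < 2 * k)
    (P : Subgroup (POmega F (⇑Q))) (hP : IsPGroup r P) : IsCyclic P := by
  have h1 : CycP r (⊤ : Subgroup (POmega F (⇑Q))) := by
    refine cycP_of hr (by omega) fun g hg hgr hg1 => ?_
    have hx : lin g ^ r = 1 := by rw [← H251.GeoCard.toLin_pow, hgr]; exact lin_one
    have hiso : Iso Q (lin g) r := Iso.mk' hr (by omega) hx (lin_iso pre_le hg)
    have hadd := hiso.finrank_add
    rw [finrank_V] at hadd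
    have hne : finrank F (cm (lin g)) ≠ 0 := fun h0 => cm_ne_bot (lin_ne_one hg1) (Submodule.finrank_eq_zero.1 h0)
    obtain ⟨c, hc⟩ := hiso.dvd_cm hr
    have hc1 : c = 1 := by
      have h5 : c < 2 := by
        by_contra hcon
        push Not at hcon
        have := Nat.mul_le_mul_left k hcon
        omega
      have h6 : c ≠ 0 := by rintro rfl; omega
      omega
    rw [hc, hc1, mul_one]
  have h2 : IsCyclic (P.comap (⊤ : Subgroup (POmega F (⇑Q))).subtype) := h1 _
    (hP.comap_of_injective _ (Subgroup.subtype_injective _))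
  refine isCyclic_of_surjective (((⊤ : Subgroup (POmega F (⇑Q))).subtype).subgroupComap P) ?_
  rintro ⟨x, hx⟩
  exact ⟨⟨⟨x, Subgroup.mem_top x⟩, hx⟩, rfl⟩

end cyc

theorem cyc_tr {S T : Type*} [Group S] [Group T] {r : ℕ} (e : S ≃* T)
    (h : ∀ P : Subgroup T, IsPGroup r P → IsCyclic P) (P : Subgroup S) (hP : IsPGroup r P) : IsCyclic P := by
  have h1 := h (P.map e.toMonoidHom) (hP.map _)
  exact isCyclic_of_surjective (P.equivMapOfInjective e.toMonoidHom e.injective).symm.toMonoidHom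
    (P.equivMapOfInjective e.toMonoidHom e.injective).symm.surjective

variable {F : Type u} [Field F] [Fintype F]

theorem pp_q {p f k r : ℕ} (hf : 1 ≤ f) (hk : 1 ≤ k) (hr : PP p (f * k) r) : PP (p ^ f) k r :=
  ⟨hr.prime, H370.Rg.ord_q hr.ord (Nat.mul_pos hf hk)⟩

/-- (T6) primes of `PΩ⁻_2m(q)`, even order -/
theorem minus_even {S : Type v} [Group S] [Finite S] {m p f k r : ℕ} (hm : 4 ≤ m) {a b : F}
    (hab : ∀ z₁ z₂ : F, z₁ ^ 2 + a * z₁ * z₂ + b * z₂ ^ 2 = 0 → z₁ = 0 ∧ z₂ = 0)
    (hp : p.Prime) (hf : 1 ≤ f) (hF : Fintype.card F = p ^ f) (hk : Even k) (hk3 : 3 ≤ k) (hmk : m < k) (hk2 : k ≤ 2 * m)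
    (hr : PP p (f * k) r) (e : Nonempty (S ≃* POmega F (quadFormMinus (m - 1) F a b))) :
    (∀ P : Subgroup S, IsPGroup r P → IsCyclic P) ∧
      (Nat.card S).factorization r = ((p ^ f) ^ k - 1).factorization r ∧ r ∣ Nat.card S := by
  obtain ⟨e⟩ := e
  have hq : PP (p ^ f) k r := pp_q hf (by omega) hr
  have hq2 : 2 ≤ p ^ f := (hp.two_le).trans (Nat.le_self_pow (by omega) p)
  obtain ⟨j, hj⟩ := hk
  have hj' : k = 2 * j := by omega
  have hcard := Cfsg.Agent.S0294.result hF m hm a b hab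
  have hS : Nat.card S = Nat.card (POmega F (quadFormMinus (m - 1) F a b)) := Nat.card_congr e.toEquiv
  rw [← hS] at hcard
  have hfac : (Nat.card S).factorization r = ((p ^ f) ^ k - 1).factorization r := by
    have h1 := congrArg (fun n => n.factorization r) hcard
    have hS0 : Nat.card S ≠ 0 := Nat.card_pos.ne'
    have hg0 : Nat.gcd 4 ((p ^ f) ^ m + 1) ≠ 0 := fun h => by
      have := (Nat.gcd_eq_zero_iff.1 h).1
      omega
    have hP0 : ∏ i ∈ Finset.range (m - 1), ((p ^ f) ^ (2 * (i + 1)) - 1) ≠ 0 :=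
      Finset.prod_ne_zero_iff.2 fun i _ => pow_sub_ne hq2 (by omega)
    have hpow0 : (p ^ f) ^ (m * (m - 1)) ≠ 0 := pow_ne_zero _ (by omega)
    have hm0 : (p ^ f) ^ m + 1 ≠ 0 := by omega
    simp only [Nat.factorization_mul hg0 hS0, Nat.factorization_mul (mul_ne_zero hpow0 hm0) hP0,
      Nat.factorization_mul hpow0 hm0, Finsupp.add_apply] at h1
    rw [Nat.factorization_eq_zero_of_not_dvd (not_dvd_gcd hq hk3 _),
      Nat.factorization_eq_zero_of_not_dvd (n := (p ^ f) ^ (m * (m - 1))) (fun h =>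
        hq.not_dvd (by omega) (hq.prime.dvd_of_dvd_pow h)), zero_add, zero_add] at h1
    rw [h1]
    have hsq := sq_sub (p ^ f) m
    by_cases hkm : k = 2 * m
    · have hjm : j = m := by omega
      rw [fac_prod_zero hq hq2, add_zero, hkm, hsq, Nat.factorization_mul hm0 (pow_sub_ne hq2 (by omega)),
        Finsupp.add_apply, fac_zero hq hq2, add_zero]
      · intro h
        have := Nat.le_of_dvd (by omega) h
        omega
      · intro i hi1 hi2 h
        have := Nat.le_of_dvd (by omega) h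
        omega
    · rw [fac_prod hq hq2 hj' (by omega) (by omega) (by omega), Nat.factorization_eq_zero_of_not_dvd, zero_add]
      intro h
      have h2 : r ∣ (p ^ f) ^ (2 * m) - 1 := by rw [hsq]; exact h.mul_right _
      rw [hq.dvd_iff (by omega), hj'] at h2
      have h3 : j ∣ m := Nat.dvd_of_mul_dvd_mul_left (by norm_num) h2
      obtain ⟨c, hc⟩ := h3
      have hc1 : c < 2 := by
        by_contra hcon
        push Not at hcon
        have := Nat.mul_le_mul_left j hcon
        omega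
      have hc0 : c ≠ 0 := by rintro rfl; omega
      obtain rfl : c = 1 := by omega
      omega
  have hcF : Nat.card F = p ^ f := by rw [Nat.card_eq_fintype_card, hF]
  refine ⟨fun P hP => ?_, hfac, ?_⟩
  · have h1 : ∀ P : Subgroup (POmega F (⇑(quadMinus (m - 1) F a b))), IsPGroup r P → IsCyclic P :=
      fun P hP => cyc_all (by rw [hcF]; exact hq) hk3 (by
        rw [card_minus (m := m) (by omega)]
        omega) P hP
    rw [coe_quadMinus] at h1
    exact cyc_tr e h1 P hP
  · have h2 : r ∣ (p ^ f) ^ k - 1 := (hq.dvd_iff (by omega) k).2 dvd_rfl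
    have h3 := hq.prime.factorization_pos_of_dvd (pow_sub_ne hq2 (by omega)) h2
    rw [← hfac] at h3
    exact Nat.dvd_of_factorization_pos h3.ne'

/-- (T6') primes of `PΩ⁺_2m(q)`, even order -/
theorem plus_even {S : Type v} [Group S] [Finite S] {m p f k r : ℕ} (hm : 4 ≤ m)
    (hp : p.Prime) (hf : 1 ≤ f) (hF : Fintype.card F = p ^ f) (hk : Even k) (hk3 : 3 ≤ k) (hmk : m < k) (hk2 : k ≤ 2 * m - 2)
    (hr : PP p (f * k) r) (e : Nonempty (S ≃* POmega F (quadFormPlus m F))) :
    (∀ P : Subgroup S, IsPGroup r P → IsCyclic P) ∧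
      (Nat.card S).factorization r = ((p ^ f) ^ k - 1).factorization r ∧ r ∣ Nat.card S := by
  obtain ⟨e⟩ := e
  have hq : PP (p ^ f) k r := pp_q hf (by omega) hr
  have hq2 : 2 ≤ p ^ f := (hp.two_le).trans (Nat.le_self_pow (by omega) p)
  obtain ⟨j, hj⟩ := hk
  have hj' : k = 2 * j := by omega
  have hcard := Cfsg.Agent.S0293.result hF m hm
  have hS : Nat.card S = Nat.card (POmega F (quadFormPlus m F)) := Nat.card_congr e.toEquiv
  rw [← hS] at hcard
  have hfac : (Nat.card S).factorization r = ((p ^ f) ^ k - 1).factorization r := by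
    have h1 := congrArg (fun n => n.factorization r) hcard
    have hS0 : Nat.card S ≠ 0 := Nat.card_pos.ne'
    have hg0 : Nat.gcd 4 ((p ^ f) ^ m - 1) ≠ 0 := fun h => by
      have := (Nat.gcd_eq_zero_iff.1 h).1
      omega
    have hP0 : ∏ i ∈ Finset.range (m - 1), ((p ^ f) ^ (2 * (i + 1)) - 1) ≠ 0 :=
      Finset.prod_ne_zero_iff.2 fun i _ => pow_sub_ne hq2 (by omega)
    have hpow0 : (p ^ f) ^ (m * (m - 1)) ≠ 0 := pow_ne_zero _ (by omega)
    have hm0 : (p ^ f) ^ m - 1 ≠ 0 := pow_sub_ne hq2 (by omega)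
    simp only [Nat.factorization_mul hg0 hS0, Nat.factorization_mul (mul_ne_zero hpow0 hm0) hP0,
      Nat.factorization_mul hpow0 hm0, Finsupp.add_apply] at h1
    rw [Nat.factorization_eq_zero_of_not_dvd (not_dvd_gcd hq hk3 _),
      Nat.factorization_eq_zero_of_not_dvd (n := (p ^ f) ^ (m * (m - 1))) (fun h =>
        hq.not_dvd (by omega) (hq.prime.dvd_of_dvd_pow h)), zero_add, zero_add, fac_zero hq hq2 (i := m) (fun h => by
        have := Nat.le_of_dvd (by omega) h
        omega), zero_add, fac_prod hq hq2 hj' (by omega) (by omega) (by omega)] at h1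
    exact h1
  have hcF : Nat.card F = p ^ f := by rw [Nat.card_eq_fintype_card, hF]
  refine ⟨fun P hP => ?_, hfac, ?_⟩
  · have h1 : ∀ P : Subgroup (POmega F (⇑(quadPlus m F))), IsPGroup r P → IsCyclic P :=
      fun P hP => cyc_all (by rw [hcF]; exact hq) hk3 (by
        rw [card_plus m]
        omega) P hP
    rw [coe_quadPlus] at h1
    exact cyc_tr e h1 P hP
  · have h2 : r ∣ (p ^ f) ^ k - 1 := (hq.dvd_iff (by omega) k).2 dvd_rfl
    have h3 := hq.prime.factorization_pos_of_dvd (pow_sub_ne hq2 (by omega)) h2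
    rw [← hfac] at h3
    exact Nat.dvd_of_factorization_pos h3.ne'

/-- (T6'') primes of odd order: `t ∣ |T|` -/
theorem minus_odd {S : Type v} [Group S] [Finite S] {m p f k r : ℕ} (hm : 4 ≤ m) {a b : F}
    (hab : ∀ z₁ z₂ : F, z₁ ^ 2 + a * z₁ * z₂ + b * z₂ ^ 2 = 0 → z₁ = 0 ∧ z₂ = 0)
    (hp : p.Prime) (hf : 1 ≤ f) (hF : Fintype.card F = p ^ f) (hk3 : 3 ≤ k) (hkm : k < m)
    (hr : PP p (f * k) r) (e : Nonempty (S ≃* POmega F (quadFormMinus (m - 1) F a b))) : r ∣ Nat.card S := by
  obtain ⟨e⟩ := e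
  have hq : PP (p ^ f) k r := pp_q hf (by omega) hr
  have hq2 : 2 ≤ p ^ f := (hp.two_le).trans (Nat.le_self_pow (by omega) p)
  have hcard := Cfsg.Agent.S0294.result hF m hm a b hab
  have hS : Nat.card S = Nat.card (POmega F (quadFormMinus (m - 1) F a b)) := Nat.card_congr e.toEquiv
  rw [← hS] at hcard
  have h1 : r ∣ Nat.gcd 4 ((p ^ f) ^ m + 1) * Nat.card S := by
    rw [hcard]
    exact (dvd_prod hq hq2 (by omega) (by omega)).mul_left _
  exact (hq.prime.dvd_mul.1 h1).resolve_left (not_dvd_gcd hq hk3 _)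

theorem plus_odd {S : Type v} [Group S] [Finite S] {m p f k r : ℕ} (hm : 4 ≤ m)
    (hp : p.Prime) (hf : 1 ≤ f) (hF : Fintype.card F = p ^ f) (hk3 : 3 ≤ k) (hkm : k ≤ m)
    (hr : PP p (f * k) r) (e : Nonempty (S ≃* POmega F (quadFormPlus m F))) : r ∣ Nat.card S := by
  obtain ⟨e⟩ := e
  have hq : PP (p ^ f) k r := pp_q hf (by omega) hr
  have hq2 : 2 ≤ p ^ f := (hp.two_le).trans (Nat.le_self_pow (by omega) p)
  have hcard := Cfsg.Agent.S0293.result hF m hm
  have hS : Nat.card S = Nat.card (POmega F (quadFormPlus m F)) := Nat.card_congr e.toEquiv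
  rw [← hS] at hcard
  have h1 : r ∣ Nat.gcd 4 ((p ^ f) ^ m - 1) * Nat.card S := by
    rw [hcard]
    rcases Nat.lt_or_ge k m with h2 | h2
    · exact (dvd_prod hq hq2 (by omega) (by omega)).mul_left _
    · obtain rfl : k = m := by omega
      exact (((hq.dvd_iff (by omega) k).2 dvd_rfl).mul_left _).mul_right _
  exact (hq.prime.dvd_mul.1 h1).resolve_left (not_dvd_gcd hq hk3 _)

end Cfsg.Agent.H70.Rg
end

-- part: H449/Reg/OddRow
section
set_option linter.all false
open scoped Cfsg.Agent.FastGrp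

/-!
# S3691, section 5: the context of `PΩ_{2m+1}(q)` (helper449)
-/

set_option autoImplicit false
set_option linter.unusedSectionVars false

namespace Cfsg.Agent.H449.Reg

open Module QuadraticMap Cfsg Cfsg.Geo Cfsg.Agent.LieClassical.OrthCore Cfsg.Agent.LieClassical.OrthTrans
  Cfsg.Agent.H454.Reg Cfsg.Agent.H884.El Cfsg.Agent.H955 Cfsg.Agent.H954.TSing Cfsg.Agent.H193.Dg Cfsg.Agent.H851.Dg
open Cfsg.Agent.LieClassical.OrthForms (oddForm coe_oddForm)
open Cfsg.Agent.LieClassical.OmegaReindex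
open scoped MatrixGroups Matrix

universe u

variable {G : Type u} [Group G] [Finite G] {T X Y : Subgroup G}

theorem quadOdd_eq (F : Type) [Field F] (m : ℕ) : oddForm m F = quadOdd m F := by
  apply DFunLike.coe_injective
  rw [coe_oddForm, coe_quadOdd]

/-- **the context** -/
theorem exists_ctx {F : Type} [Field F] [Fintype F] {m p f : ℕ} (hm : 3 ≤ m) (hp : p.Prime) (hf1 : 1 ≤ f)
    (hF : Fintype.card F = p ^ f) (hodd : Odd (Fintype.card F)) [T.Normal] (hf : Fac T X Y)
    (hT : Nonempty (T ≃* POmega F (quadFormOdd m F))) :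
    ∃ (hG : Good (oddForm m F)) (eT : T ≃* POmega F (⇑(oddForm m F))) (hI : Ind (eP hG eT)), Ctx hI X Y p f m := by
  have h2 := H390.two_ne_zero_of_odd hodd
  have hQ : Nondeg (oddForm m F) := by
    rw [quadOdd_eq]
    exact nondeg_iff.2 (quadOdd_nondegenerate h2)
  have hd : Module.finrank F (Unit ⊕ (Fin m ⊕ Fin m) → F) = 2 * m + 1 := by
    rw [Module.finrank_fintype_fun_eq_card, card_odd]
  have hG : Good (oddForm m F) := LieClassical.OrthFinite.good_of_finite hQ (by rw [hd]; omega)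
  obtain ⟨e⟩ := hT
  have hp2 : p ≠ 2 := by
    rintro rfl
    rw [hF] at hodd
    exact (Nat.not_odd_iff_even.2 ((Nat.even_pow.2 ⟨even_two, by omega⟩))) hodd
  have h1 : Nonempty (T ≃* POmega F (⇑(oddForm m F))) := by rw [coe_oddForm]; exact ⟨e⟩
  obtain ⟨eT⟩ := h1
  refine ⟨hG, eT, ind_of_surjective _ (AutOrth.Final.surjective_odd hm h2), hf, hp, hf1, by rw [Nat.card_eq_fintype_card, hF], hp2,
    card_odd m, by rw [quadOdd_eq]; exact data_odd hm h2, ?_, ?_⟩
  · intro i r a hi him hi3 hr hd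
    have h3 := S0292.result (F := F) hF (by rw [← hF]; exact hodd) m hm
    have h4 : (p ^ f) ^ (2 * i) - 1 ∣ 2 * Nat.card T := by
      rw [Nat.card_congr e.toEquiv, h3]
      apply Dvd.dvd.mul_left
      have h5 := Finset.dvd_prod_of_mem (fun j => (p ^ f) ^ (2 * (j + 1)) - 1) (Finset.mem_range.2 (show i - 1 < m by omega))
      rwa [Nat.sub_add_cancel hi] at h5
    have h6 := hr.lt (by have := Nat.mul_le_mul hf1 hi3; omega)
    have h7 : 1 * (2 * i) ≤ f * (2 * i) := Nat.mul_le_mul_right _ hf1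
    have h8 : Nat.Coprime (r ^ a) 2 := Nat.Coprime.pow_left _ ((Nat.coprime_primes hr.prime Nat.prime_two).2 (by omega))
    exact h8.dvd_of_dvd_mul_left (hd.trans h4)
  · intro k r hk hr
    have := hf.simple
    exact H370.Rg.out_oodd hf.nonab hp hf1 hF hm (by rw [← hF]; exact hodd) ⟨e⟩ hr.prime hk hr.ord

end Cfsg.Agent.H449.Reg
end

-- part: H859/Rg/CtxOrth
section
set_option linter.all false
open scoped Cfsg.Agent.FastGrp

/-!
# S3691, sections 6, 7: the contexts of `PΩ⁻_2m(q)` and `PΩ⁺_2m(q)` (helper859)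

* `exists_cx_minus`, `exists_cx_plus` (T18)
* `plus_six` (T20) : the full power of a primitive prime of `q ^ 6 - 1` in `|PΩ⁺_12(q)|`
-/

set_option autoImplicit false
set_option linter.unusedSectionVars false

namespace Cfsg.Agent.H859.Rg

open Module QuadraticMap Cfsg Cfsg.Geo Cfsg.Agent.LieClassical.OrthCore Cfsg.Agent.LieClassical.OrthTrans
  Cfsg.Agent.H454.Reg Cfsg.Agent.H884.El Cfsg.Agent.H955 Cfsg.Agent.H954.TSing Cfsg.Agent.H193.Dg Cfsg.Agent.H851.Dg
  Cfsg.Agent.H449.Reg Cfsg.Agent.H964.Rg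
open Cfsg.Agent.H951 (fx cm Inv)
open Cfsg.Agent.H278.Cov (Red Ext Num)
open Cfsg.Agent.LieClassical.OrthFinite (glEquiv glEquiv_apply)
open Cfsg.Agent.LieClassical.OmegaReindex
open scoped MatrixGroups Matrix

universe u v

/-- (T20) `r_6` in `PΩ⁺_12(q)` -/
theorem plus_six {F : Type} [Field F] [Fintype F] {S : Type v} [Group S] [Finite S] {p f r : ℕ}
    (hp : p.Prime) (hf : 1 ≤ f) (hF : Fintype.card F = p ^ f)
    (hr : PP p (f * 6) r) (e : Nonempty (S ≃* POmega F (quadFormPlus 6 F))) :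
    (Nat.card S).factorization r ≤ 2 * ((p ^ f) ^ 6 - 1).factorization r := by
  obtain ⟨e⟩ := e
  have hq : PP (p ^ f) 6 r := H70.Rg.pp_q hf (by omega) hr
  have hq2 : 2 ≤ p ^ f := (hp.two_le).trans (Nat.le_self_pow (by omega) p)
  have hcard := Cfsg.Agent.S0293.result hF 6 (by norm_num)
  have hS : Nat.card S = Nat.card (POmega F (quadFormPlus 6 F)) := Nat.card_congr e.toEquiv
  rw [← hS] at hcard
  have h1 := congrArg (fun n => n.factorization r) hcard
  have hS0 : Nat.card S ≠ 0 := Nat.card_pos.ne'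
  have hg0 : Nat.gcd 4 ((p ^ f) ^ 6 - 1) ≠ 0 := fun h => by
    have := (Nat.gcd_eq_zero_iff.1 h).1
    omega
  have hP0 : ∏ i ∈ Finset.range (6 - 1), ((p ^ f) ^ (2 * (i + 1)) - 1) ≠ 0 :=
    Finset.prod_ne_zero_iff.2 fun i _ => H70.Rg.pow_sub_ne hq2 (by omega)
  have hpow0 : (p ^ f) ^ (6 * (6 - 1)) ≠ 0 := pow_ne_zero _ (by omega)
  have hm0 : (p ^ f) ^ 6 - 1 ≠ 0 := H70.Rg.pow_sub_ne hq2 (by omega)
  simp only [Nat.factorization_mul hg0 hS0, Nat.factorization_mul (mul_ne_zero hpow0 hm0) hP0,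
    Nat.factorization_mul hpow0 hm0, Finsupp.add_apply] at h1
  rw [Nat.factorization_eq_zero_of_not_dvd (H70.Rg.not_dvd_gcd hq (by norm_num) _),
    Nat.factorization_eq_zero_of_not_dvd (n := (p ^ f) ^ (6 * (6 - 1))) (fun h =>
      hq.not_dvd (by omega) (hq.prime.dvd_of_dvd_pow h)), zero_add, zero_add,
    H70.Rg.fac_prod hq hq2 (j := 3) (by norm_num) (by norm_num) (by norm_num) (by norm_num)] at h1
  omega

section row

variable {G : Type u} [Group G] [Finite G] {T X Y : Subgroup G}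

theorem dvd_of_fac {S : Type*} [Finite S] [Nonempty S] {n r a : ℕ} (hr : r.Prime) (hn : n ≠ 0)
    (h : (Nat.card S).factorization r = n.factorization r) (hd : r ^ a ∣ n) : r ^ a ∣ Nat.card S := by
  rw [hr.pow_dvd_iff_le_factorization hn] at hd
  rw [hr.pow_dvd_iff_le_factorization Nat.card_pos.ne', h]
  exact hd

/-- (T18) the context of `PΩ⁻_2m(q)` -/
theorem exists_cx_minus {F : Type} [Field F] [Fintype F] {m p f : ℕ} (hm : 5 ≤ m) {a b : F}
    (hab : ∀ z₁ z₂ : F, z₁ ^ 2 + a * z₁ * z₂ + b * z₂ ^ 2 = 0 → z₁ = 0 ∧ z₂ = 0)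
    (hp : p.Prime) (hf1 : 1 ≤ f) (hF : Fintype.card F = p ^ f) [T.Normal] (hf : Fac T X Y)
    (hT : Nonempty (T ≃* POmega F (quadFormMinus (m - 1) F a b))) :
    ∃ (ι : Type) (_ : Fintype ι) (_ : DecidableEq ι) (Q : QuadraticForm F (ι → F)) (hG : Good Q) (eT : T ≃* POmega F (⇑Q))
      (hI : Ind (eP hG eT)), Cx hI X Y p f m (2 * m) ∧ ¬ IsPlus Q := by
  obtain ⟨e⟩ := hT
  have hQ : Nondeg (quadMinus (m - 1) F a b) := nondeg_iff.2 (quadMinus_nondegenerate hab)
  have hd : Module.finrank F ((Fin (m - 1) ⊕ Fin (m - 1)) ⊕ Fin 2 → F) = 2 * m := by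
    rw [Module.finrank_fintype_fun_eq_card, card_minus (by omega)]
  have hG : Good (quadMinus (m - 1) F a b) := LieClassical.OrthFinite.good_of_finite hQ (by rw [hd]; omega)
  have h1 : Nonempty (T ≃* POmega F (⇑(quadMinus (m - 1) F a b))) := by rw [coe_quadMinus]; exact ⟨e⟩
  obtain ⟨eT⟩ := h1
  have hs : Function.Surjective (Cfsg.Agent.ClassicalGeometry.OrthSemi.Psi (quadMinus (m - 1) F a b)) := by
    have h2 : LieClassical.OrthForms.minusForm (m - 1) F a b = quadMinus (m - 1) F a b := by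
      apply DFunLike.coe_injective
      rw [coe_quadMinus, LieClassical.OrthForms.coe_minusForm]
    rw [← h2]
    exact AutOrth.Final.surjective_minus (by omega) hab
  have hq2 : 2 ≤ p ^ f := (hp.two_le).trans (Nat.le_self_pow (by omega) p)
  refine ⟨(Fin (m - 1) ⊕ Fin (m - 1)) ⊕ Fin 2, inferInstance, inferInstance, quadMinus (m - 1) F a b, hG, eT,
    ind_of_surjective _ hs, ⟨hf, hp, hf1, by rw [Nat.card_eq_fintype_card, hF], card_minus (by omega),
      data_minus (by omega) hab, le_rfl, ?_, ?_⟩, not_isPlus_quadMinus hab⟩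
  · intro k r c hk hk3 hmk hkm hr hd
    exact dvd_of_fac hr.prime (H70.Rg.pow_sub_ne hq2 (by omega))
      (H70.Rg.minus_even (S := T) (by omega) hab hp hf1 hF hk hk3 hmk hkm hr ⟨e⟩).2.1 hd
  · intro k r hk hr
    have := hf.simple
    exact H370.Rg.out_ominus hf.nonab hp hf1 hF (by omega) hab ⟨e⟩ hr.prime hk hr.ord

/-- (T18) the context of `PΩ⁺_2m(q)` -/
theorem exists_cx_plus {F : Type} [Field F] [Fintype F] {m p f : ℕ} (hm : 5 ≤ m)
    (hp : p.Prime) (hf1 : 1 ≤ f) (hF : Fintype.card F = p ^ f) [T.Normal] (hf : Fac T X Y)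
    (hT : Nonempty (T ≃* POmega F (quadFormPlus m F))) :
    ∃ (ι : Type) (_ : Fintype ι) (_ : DecidableEq ι) (Q : QuadraticForm F (ι → F)) (hG : Good Q) (eT : T ≃* POmega F (⇑Q))
      (hI : Ind (eP hG eT)), Cx hI X Y p f m (2 * m - 2) ∧ IsPlus Q := by
  obtain ⟨e⟩ := hT
  have hQ : Nondeg (quadPlus m F) := nondeg_iff.2 quadPlus_nondegenerate
  have hd : Module.finrank F (Fin m ⊕ Fin m → F) = 2 * m := by
    rw [Module.finrank_fintype_fun_eq_card, card_plus m]
  have hG : Good (quadPlus m F) := LieClassical.OrthFinite.good_of_finite hQ (by rw [hd]; omega)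
  have h1 : Nonempty (T ≃* POmega F (⇑(quadPlus m F))) := by rw [coe_quadPlus]; exact ⟨e⟩
  obtain ⟨eT⟩ := h1
  have hs : Function.Surjective (Cfsg.Agent.ClassicalGeometry.OrthSemi.Psi (quadPlus m F)) := by
    have h2 : LieClassical.OrthForms.plusForm m F = quadPlus m F := by
      apply DFunLike.coe_injective
      rw [coe_quadPlus, LieClassical.OrthForms.coe_plusForm]
    rw [← h2]
    exact AutOrth.Final.surjective_plus hm
  have hq2 : 2 ≤ p ^ f := (hp.two_le).trans (Nat.le_self_pow (by omega) p)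
  refine ⟨Fin m ⊕ Fin m, inferInstance, inferInstance, quadPlus m F, hG, eT,
    ind_of_surjective _ hs, ⟨hf, hp, hf1, by rw [Nat.card_eq_fintype_card, hF], card_plus m,
      data_plus (by omega), by omega, ?_, ?_⟩, isPlus_quadPlus m⟩
  · intro k r c hk hk3 hmk hkm hr hd
    exact dvd_of_fac hr.prime (H70.Rg.pow_sub_ne hq2 (by omega))
      (H70.Rg.plus_even (S := T) (by omega) hp hf1 hF hk hk3 hmk hkm hr ⟨e⟩).2.1 hd
  · intro k r hk hr
    have := hf.simple
    exact H370.Rg.out_oplus hf.nonab hp hf1 hF (by omega) ⟨e⟩ hr.prime hk hr.ord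

end row

end Cfsg.Agent.H859.Rg
end

-- part: H111/Rg/Plane
section
set_option linter.all false
open scoped Cfsg.Agent.FastGrp

/-!
# S3691: Siegel elements from the action on `P^⊥`, `P` nondegenerate of dimension at most two (T3, `lift_plane`)
-/

set_option autoImplicit false

namespace Cfsg.Agent.H111.Rg

open Module QuadraticMap Cfsg Cfsg.Agent.LieClassical.OrthCore Cfsg.Agent.LieClassical.OrthTrans
  Cfsg.Agent.H955
open Cfsg.Agent.LieClassical.OrthFinite (good_of_finite)

open scoped commutatorElement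

universe u v

variable {F : Type u} [Field F] {V : Type v} [AddCommGroup V] [Module F V]
  {Q : QuadraticForm F V} {A : Subgroup (V ≃ₗ[F] V)}

/-- the restriction of a group to an invariant subspace -/
def rstr {P : Submodule F V} (hAP : ∀ a ∈ A, ∀ x ∈ P, a x ∈ P) : A →* (P ≃ₗ[F] P) where
  toFun a :=
    { toFun := fun x => ⟨(a : V ≃ₗ[F] V) x, hAP a a.2 x x.2⟩
      invFun := fun x => ⟨((a⁻¹ : A) : V ≃ₗ[F] V) x, hAP _ (a⁻¹ : A).2 x x.2⟩
      map_add' := fun x y => Subtype.ext (map_add (a : V ≃ₗ[F] V) (x : V) (y : V))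
      map_smul' := fun c x => Subtype.ext (map_smul (a : V ≃ₗ[F] V) c (x : V))
      left_inv := fun x => Subtype.ext ((a : V ≃ₗ[F] V).symm_apply_apply (x : V))
      right_inv := fun x => Subtype.ext ((a : V ≃ₗ[F] V).apply_symm_apply (x : V)) }
  map_one' := by
    ext x
    rfl
  map_mul' a b := by
    ext x
    rfl

theorem rstr_apply {P : Submodule F V} (hAP : ∀ a ∈ A, ∀ x ∈ P, a x ∈ P) (a : A) (x : P) :
    (rstr hAP a x : V) = (a : V ≃ₗ[F] V) x := rfl

/-- The orthogonal group of a nondegenerate space of dimension at most two is solvable. -/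
theorem solvable_O (hQ : Nondeg Q) [FiniteDimensional F V] (hd : finrank F V ≤ 2) : Group.IsSolvable ↥(O Q) := by
  rcases Nat.lt_or_ge (finrank F V) 2 with h | h
  · -- dimension at most one
    have hsc : ∀ g : V ≃ₗ[F] V, ∃ c : F, ∀ v, g v = c • v := by
      intro g
      rcases Nat.eq_zero_or_pos (finrank F V) with h0 | h0
      · have := finrank_zero_iff.1 h0
        exact ⟨1, fun v => Subsingleton.elim _ _⟩
      · obtain ⟨b, hb0, hb⟩ := finrank_eq_one_iff'.1 (by omega : finrank F V = 1)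
        obtain ⟨c, hc⟩ := hb (g b)
        refine ⟨c, fun v => ?_⟩
        obtain ⟨d, rfl⟩ := hb v
        rw [map_smul, ← hc, smul_smul, smul_smul, mul_comm]
    have hcomm : ∀ a b : ↥(O Q), a * b = b * a := by
      intro a b
      apply Subtype.ext
      ext v
      obtain ⟨c, hc⟩ := hsc a.1
      obtain ⟨d, hd⟩ := hsc b.1
      show a.1 (b.1 v) = b.1 (a.1 v)
      rw [hd, hc, hc, hd, smul_smul, smul_smul, mul_comm]
    exact Group.isSolvable_of_comm hcomm
  · exact BpCl.Plane.isSolvable hQ (by omega)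

/-- (T3) Siegel elements from the action on `P^⊥`, `P` nondegenerate of dimension at most two -/
theorem lift_plane [Fintype F] [FiniteDimensional F V] (hQ : Nondeg Q) {P : Submodule F V} (hP : Nondeg (res Q P))
    (hP2 : finrank F P ≤ 2)
    (hn : 7 ≤ finrank F V) (hA : A ≤ O Q) (hAP : ∀ a ∈ A, ∀ x ∈ P, a x ∈ P)
    (hE : ∀ y ∈ E (res Q (perp Q P)), ∃ a ∈ A, ∀ w : perp Q P, a w = y w)
    {x w : V} (hx : Q x = 0) (hw : polar Q x w = 0) (hxP : x ∈ perp Q P) (hwP : w ∈ perp Q P) :
    siegel Q x w hx hw ∈ A := by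
  have hG : Good (res Q (perp Q P)) := by
    refine good_of_finite (nondeg_perp hQ hP) ?_
    have := finrank_add_perp hQ P
    omega
  -- the action on `P`
  let ρ : A →* ↥(O (res Q P)) := (rstr hAP).codRestrict (O (res Q P)) (fun a => by
    intro x
    rw [res_apply, res_apply, rstr_apply]
    exact hA a.2 x)
  obtain ⟨n, hn0⟩ := (solvable_O hP hP2).solvable
  have h1 : ∀ a ∈ derivedSeries A n, ∀ x ∈ P, (a : V ≃ₗ[F] V) x = x := by
    intro a ha x hx
    have h2 : ρ a ∈ derivedSeries ↥(O (res Q P)) n := map_derivedSeries_le_derivedSeries ρ n ⟨a, ha, rfl⟩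
    rw [hn0, Subgroup.mem_bot] at h2
    have h3 : rstr hAP a = 1 := congrArg Subtype.val h2
    have h4 := congrArg Subtype.val (LinearEquiv.congr_fun h3 (⟨x, hx⟩ : P))
    exact h4
  -- lifts in the derived series
  have h2 : ∀ k, ∀ y ∈ E (res Q (perp Q P)), ∃ a ∈ derivedSeries A k, ∀ w : perp Q P, (a : V ≃ₗ[F] V) w = y w := by
    intro k
    induction k with
    | zero =>
      intro y hy
      obtain ⟨a, ha, h⟩ := hE y hy
      exact ⟨⟨a, ha⟩, by rw [derivedSeries_zero]; trivial, h⟩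
    | succ k ih =>
      intro y hy
      rw [← hG.E_perfect, Subgroup.commutator_def] at hy
      have hinv : ∀ (a : A) (y : perp Q P ≃ₗ[F] perp Q P), (∀ w : perp Q P, (a : V ≃ₗ[F] V) w = y w) →
          ∀ w : perp Q P, ((a⁻¹ : A) : V ≃ₗ[F] V) w = (y⁻¹ w : perp Q P) := by
        intro a y h w
        apply (a : V ≃ₗ[F] V).injective
        have e1 : (a : V ≃ₗ[F] V) (((a⁻¹ : A) : V ≃ₗ[F] V) w) = w := (a : V ≃ₗ[F] V).apply_symm_apply _
        have e2 : y (y⁻¹ w) = w := y.apply_symm_apply w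
        rw [e1, h, e2]
      induction hy using Subgroup.closure_induction with
      | mem y hy =>
        obtain ⟨y₁, hy₁, y₂, hy₂, rfl⟩ := hy
        obtain ⟨a₁, ha₁, e₁⟩ := ih y₁ hy₁
        obtain ⟨a₂, ha₂, e₂⟩ := ih y₂ hy₂
        refine ⟨⁅a₁, a₂⁆, ?_, fun w => ?_⟩
        · rw [derivedSeries_succ]
          exact Subgroup.commutator_mem_commutator ha₁ ha₂
        · rw [commutatorElement_def, commutatorElement_def]
          show (a₁ : V ≃ₗ[F] V) ((a₂ : V ≃ₗ[F] V) (((a₁⁻¹ : A) : V ≃ₗ[F] V) (((a₂⁻¹ : A) : V ≃ₗ[F] V) w))) =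
            (y₁ (y₂ (y₁⁻¹ (y₂⁻¹ w))) : perp Q P)
          rw [hinv a₂ y₂ e₂, hinv a₁ y₁ e₁, e₂, e₁]
      | one => exact ⟨1, Subgroup.one_mem _, fun w => rfl⟩
      | mul y z _ _ hy hz =>
        obtain ⟨a, ha, e⟩ := hy
        obtain ⟨b, hb, e'⟩ := hz
        refine ⟨a * b, Subgroup.mul_mem _ ha hb, fun w => ?_⟩
        show (a : V ≃ₗ[F] V) ((b : V ≃ₗ[F] V) w) = (y (z w) : perp Q P)
        rw [e', e]
      | inv y _ hy =>
        obtain ⟨a, ha, e⟩ := hy
        exact ⟨a⁻¹, Subgroup.inv_mem _ ha, hinv a y e⟩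
  have hx' : res Q (perp Q P) ⟨x, hxP⟩ = 0 := hx
  have hw' : polar (res Q (perp Q P)) ⟨x, hxP⟩ ⟨w, hwP⟩ = 0 := hw
  obtain ⟨a, ha, e⟩ := h2 n (siegel (res Q (perp Q P)) ⟨x, hxP⟩ ⟨w, hwP⟩ hx' hw') (siegel_mem_E hx' hw')
  have h3 : siegel Q x w hx hw = (a : V ≃ₗ[F] V) := by
    ext v
    obtain ⟨⟨p, u⟩, rfl⟩ := (decomp hP).surjective v
    rw [decomp_apply, map_add, map_add, h1 a ha p p.2, e u]
    have e1 : siegel Q x w hx hw (p : V) = p := by
      rw [siegel_apply, mem_perp'.1 hxP p p.2, mem_perp'.1 hwP p p.2]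
      simp
    rw [e1, siegel_apply, siegel_apply]
    rfl
  rw [h3]
  exact a.2

end Cfsg.Agent.H111.Rg
end

-- part: H826/RgF/Tools
section
set_option linter.all false
open scoped Cfsg.Agent.FastGrp

/-!
# S3691, reduction of the plus type: tools (helper826)

* `iv_perp`, `rd_fix` : invariant subspaces; `fix_pow` : elements of order `r ^ i` act trivially on small subspaces
* `rstr` (helper111): the restriction; `el_range`, `range_le_O`, `lift_E`
-/

set_option autoImplicit false
set_option linter.unusedSectionVars false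

namespace Cfsg.Agent.H826.RgF

open Module QuadraticMap Cfsg Cfsg.Geo Cfsg.Agent.LieClassical.OrthCore Cfsg.Agent.LieClassical.OrthTrans
  Cfsg.Agent.H449.Reg Cfsg.Agent.H955 Cfsg.Agent.H954.TSing Cfsg.Agent.H884.El
open Cfsg.Agent.H951 (fx cm Inv)
open Cfsg.Agent.H111.Rg (rstr rstr_apply)

variable {F : Type} [Field F] {V : Type} [AddCommGroup V] [Module F V] {Q : QuadraticForm F V} {A : Subgroup (V ≃ₗ[F] V)}

theorem polar_O {g : V ≃ₗ[F] V} (hg : g ∈ O Q) (u w : V) : polar Q (g u) (g w) = polar Q u w := by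
  rw [mem_O] at hg
  simp only [polar, ← map_add, hg]

theorem iv_perp (hA : A ≤ O Q) {W : Submodule F V} (hW : Iv A W) : Iv A (perp Q W) := by
  intro a ha w hw u hu
  have h1 : a⁻¹ u ∈ W := hW _ (A.inv_mem ha) u hu
  have h2 : u = a (a⁻¹ u) := by
    change u = (a * a⁻¹) u
    rw [mul_inv_cancel]; rfl
  rw [h2, polar_O (hA ha)]
  exact hw _ h1

/-- the element as an isometry of prime order -/
theorem iso_of [Fintype F] [FiniteDimensional F V] {e r : ℕ} (hr : PP (Nat.card F) e r) (he : 2 ≤ e) {x : V ≃ₗ[F] V} (hx : x ∈ O Q)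
    (hxr : x ^ r = 1) : Iso Q (x : Module.End F V) r :=
  Iso.mk' hr he (H522.Rg.coe_pow_one hxr) fun v => mem_O.1 hx v

theorem El.exists_prime {r i : ℕ} (hr : r.Prime) (hi : 1 ≤ i) (h : El A (r ^ i)) : ∃ x ∈ A, x ^ r = 1 ∧ x ≠ 1 := by
  obtain ⟨g, hg, ho⟩ := h
  obtain ⟨j, rfl⟩ : ∃ j, i = j + 1 := ⟨i - 1, by omega⟩
  refine ⟨g ^ r ^ j, A.pow_mem hg _, ?_, ?_⟩
  · rw [← pow_mul, ← pow_succ, ← ho, pow_orderOf_eq_one]
  · intro h1
    have h2 := orderOf_dvd_of_pow_eq_one h1
    rw [ho] at h2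
    have h3 := Nat.le_of_dvd (pow_pos hr.pos _) h2
    have h4 : r ^ j < r ^ (j + 1) := Nat.pow_lt_pow_right hr.one_lt (by omega)
    omega

theorem El.dvd {a : ℕ} (h : El A a) : a ∣ Nat.card A := by
  obtain ⟨g, hg, ho⟩ := h
  rw [← ho, ← Subgroup.orderOf_mk g hg]
  exact orderOf_dvd_natCard _

theorem El.prime_dvd {r i : ℕ} (hi : 1 ≤ i) (h : El A (r ^ i)) : r ∣ Nat.card A :=
  (dvd_pow_self r (by omega)).trans h.dvd

theorem el_of_dvd [Finite F] [FiniteDimensional F V] {r : ℕ} (hr : r.Prime) (h : r ∣ Nat.card A) : El A r := by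
  have hV : Finite V := Module.finite_of_finite F
  have hfin : Finite (V ≃ₗ[F] V) := Finite.of_injective (fun g : V ≃ₗ[F] V => (g : V → V)) DFunLike.coe_injective
  have := Fact.mk hr
  obtain ⟨x, hx⟩ := exists_prime_orderOf_dvd_card' r h
  exact ⟨x, x.2, by rw [Subgroup.orderOf_coe, hx]⟩

theorem El.exists_elt {r : ℕ} (hr : r.Prime) (h : El A r) : ∃ x ∈ A, x ^ r = 1 ∧ x ≠ 1 :=
  El.exists_prime hr le_rfl (by rwa [pow_one])

section fin

variable [Fintype F] [FiniteDimensional F V]

/-- the block of an element of prime order `r`, `ord_r(q) = e > n / 2` -/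
theorem block {e r : ℕ} (hr : PP (Nat.card F) e r) (he : 2 ≤ e) (hn : finrank F V < 2 * e) {x : V ≃ₗ[F] V} (hx : x ∈ O Q)
    (hxr : x ^ r = 1) (hx1 : x ≠ 1) :
    finrank F (fx (x : Module.End F V)) + e = finrank F V ∧ finrank F (cm (x : Module.End F V)) = e ∧
      ∀ W : Submodule F V, (∀ w ∈ W, x w ∈ W) → W ≤ fx (x : Module.End F V) ∨ cm (x : Module.End F V) ≤ W := by
  have h := iso_of hr he hx hxr
  have h1 := H522.Rg.fx_even hr he hn hxr hx1
  have h2 := h.finrank_add
  have hcm : finrank F (cm (x : Module.End F V)) = e := by omega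
  refine ⟨h1, hcm, fun W hW => ?_⟩
  have h3 := h.dvd hr (W := W) hW
  have h4 : finrank F ↥(W ⊓ cm (x : Module.End F V)) ≤ finrank F (cm (x : Module.End F V)) :=
    Submodule.finrank_mono inf_le_right
  rcases Nat.eq_zero_or_pos (finrank F ↥(W ⊓ cm (x : Module.End F V))) with h5 | h5
  · left
    have h6 : W ⊓ cm (x : Module.End F V) = ⊥ := Submodule.finrank_eq_zero.1 h5
    have h7 := H951.inf_fx_sup_inf_cm h.ne0 h.pow (W := W) hW
    rw [h6, sup_bot_eq] at h7
    rw [← h7]
    exact inf_le_right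
  · right
    have := Nat.le_of_dvd h5 h3
    have h6 : W ⊓ cm (x : Module.End F V) = cm (x : Module.End F V) :=
      Submodule.eq_of_le_of_finrank_eq inf_le_right (by omega)
    rw [← h6]
    exact inf_le_left

theorem perp_cm' (hQ : Nondeg Q) {e r : ℕ} (hr : PP (Nat.card F) e r) (he : 2 ≤ e) {x : V ≃ₗ[F] V} (hx : x ∈ O Q)
    (hxr : x ^ r = 1) : perp Q (cm (x : Module.End F V)) = fx (x : Module.End F V) := by
  have h := iso_of hr he hx hxr
  exact perp_cm hQ h.iso h.ne0 h.pow

theorem nondeg_cm' (hQ : Nondeg Q) {e r : ℕ} (hr : PP (Nat.card F) e r) (he : 2 ≤ e) {x : V ≃ₗ[F] V} (hx : x ∈ O Q)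
    (hxr : x ^ r = 1) : Nondeg (res Q (cm (x : Module.End F V))) := by
  have h := iso_of hr he hx hxr
  exact nondeg_cm hQ h.iso h.ne0 h.pow

theorem nondeg_fx' (hQ : Nondeg Q) {e r : ℕ} (hr : PP (Nat.card F) e r) (he : 2 ≤ e) {x : V ≃ₗ[F] V} (hx : x ∈ O Q)
    (hxr : x ^ r = 1) : Nondeg (res Q (fx (x : Module.End F V))) := by
  rw [← perp_cm' hQ hr he hx hxr]
  exact nondeg_perp hQ (nondeg_cm' hQ hr he hx hxr)

/-- **a reducible group has an invariant subspace in the fixed space of `x`** -/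
theorem rd_fix (hQ : Nondeg Q) (hA : A ≤ O Q) {e r : ℕ} (hr : PP (Nat.card F) e r) (he : 2 ≤ e) (hn : finrank F V < 2 * e)
    {x : V ≃ₗ[F] V} (hx : x ∈ A) (hxr : x ^ r = 1) (hx1 : x ≠ 1) (hred : Rd A) :
    ∃ S : Submodule F V, S ≠ ⊥ ∧ Iv A S ∧ S ≤ fx (x : Module.End F V) := by
  obtain ⟨W, hW0, hW1, hW⟩ := hred
  obtain ⟨-, -, hb⟩ := block hr he hn (hA hx) hxr hx1
  rcases hb W (fun w hw => hW x hx w hw) with h | h
  · exact ⟨W, hW0, hW, h⟩
  · refine ⟨perp Q W, fun h0 => hW1 ?_, iv_perp hA hW, ?_⟩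
    · rw [← perp_perp hQ W, h0, perp_bot]
    · rw [← perp_cm' hQ hr he (hA hx) hxr]
      intro v hv u hu
      exact hv u (h hu)

/-- small invariant subspaces are fixed pointwise -/
theorem le_fx {e r : ℕ} (hr : PP (Nat.card F) e r) (he : 2 ≤ e) {x : V ≃ₗ[F] V} (hx : x ∈ O Q) (hxr : x ^ r = 1)
    {W : Submodule F V} (hW : ∀ w ∈ W, x w ∈ W) (hd : finrank F W < e) : W ≤ fx (x : Module.End F V) :=
  (iso_of hr he hx hxr).le_fx hr hW hd

/-- an element of order `r ^ i` acts trivially on small invariant subspaces -/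
theorem fix_pow {e r : ℕ} (hr : PP (Nat.card F) e r) (he : 1 ≤ e) {W : Submodule F V} (hd : finrank F W < e) :
    ∀ (i : ℕ) (g : V ≃ₗ[F] V), (∀ w ∈ W, g w ∈ W) → g ^ r ^ i = 1 → ∀ w ∈ W, g w = w := by
  intro i
  induction i with
  | zero =>
    intro g _ hg w _
    rw [pow_zero, pow_one] at hg
    rw [hg]; rfl
  | succ i ih =>
    intro g hW hg w hw
    have hWn : ∀ n : ℕ, ∀ w ∈ W, (g ^ n) w ∈ W := by
      intro n
      induction n with
      | zero => intro w hw; exact hw
      | succ n ihn =>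
        intro w hw
        rw [pow_succ']
        exact hW _ (ihn w hw)
    have h1 := ih (g ^ r) (hWn r) (by rw [← pow_mul, ← pow_succ', hg])
    have := Fact.mk hr.prime
    let z : Module.End F W := (g : V →ₗ[F] V).restrict hW
    have hz : ∀ (n : ℕ) (u : W), (((z ^ n) u : W) : V) = (g ^ n) u := by
      intro n
      induction n with
      | zero => intro u; rfl
      | succ n ihn =>
        intro u
        rw [pow_succ', pow_succ']
        change g (((z ^ n) u : W) : V) = g ((g ^ n) u)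
        rw [ihn]
    have hz1 : z ^ r = 1 := by
      apply LinearMap.ext
      intro u
      apply Subtype.ext
      rw [hz, h1 u u.2]
      rfl
    have h0 := hr.ne0 (F := F) he
    have h2 := H951.ord_dvd_finrank hz1 H951.inv_cm (H951.inf_fx_of_le_cm h0 hz1 le_rfl)
    rw [ord_eq hr] at h2
    have h3 : finrank F (cm z) ≤ finrank F W := Submodule.finrank_le _
    have h4 : finrank F (cm z) = 0 := by
      by_contra hne
      have := Nat.le_of_dvd (Nat.pos_of_ne_zero hne) h2
      omega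
    have h5 : z = 1 := by
      by_contra hne
      exact cm_ne_bot hne (Submodule.finrank_eq_zero.1 h4)
    have h6 : ((z ⟨w, hw⟩ : W) : V) = w := by rw [h5]; rfl
    exact h6

/-! ### restriction -/

theorem range_le_O {U : Submodule F V} (hA : A ≤ O Q) (hU : ∀ a ∈ A, ∀ w ∈ U, a w ∈ U) : (rstr hU).range ≤ O (res Q U) := by
  rintro _ ⟨a, rfl⟩
  rw [mem_O]
  intro u
  rw [res_apply, res_apply, rstr_apply]
  exact mem_O.1 (hA a.2) _

/-- an isometry trivial on a nondegenerate subspace and on its complement is trivial -/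
theorem eq_one_of_triv {U : Submodule F V} (hU : Nondeg (res Q U)) {g : V ≃ₗ[F] V} (h1 : ∀ u ∈ U, g u = u)
    (h2 : ∀ u ∈ perp Q U, g u = u) : g = 1 := by
  apply LinearEquiv.ext
  intro v
  have hv : v ∈ U ⊔ perp Q U := by rw [(isCompl_perp hU).sup_eq_top]; trivial
  obtain ⟨a, ha, b, hb, rfl⟩ := Submodule.mem_sup.1 hv
  rw [map_add, h1 a ha, h2 b hb]
  rfl

theorem rstr_pow {U : Submodule F V} (hU : ∀ a ∈ A, ∀ w ∈ U, a w ∈ U) (a : A) (n : ℕ) (u : U) :
    ((((rstr hU a) ^ n : U ≃ₗ[F] U) u : U) : V) = ((a : V ≃ₗ[F] V) ^ n) u := by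
  rw [← map_pow, rstr_apply]
  rfl

/-- **elements of the restriction** -/
theorem order_rstr {e r i : ℕ} (hr : PP (Nat.card F) e r) (he : 1 ≤ e) {U : Submodule F V} (hUn : Nondeg (res Q U))
    (hA : A ≤ O Q) (hU : ∀ a ∈ A, ∀ w ∈ U, a w ∈ U) (hd : finrank F (perp Q U) < e) {g : V ≃ₗ[F] V} (hg : g ∈ A) (ho : orderOf g = r ^ i) :
    orderOf (rstr hU ⟨g, hg⟩) = r ^ i := by
  rw [← ho, orderOf_eq_orderOf_iff]
  intro n
  have hg1 : ∀ w ∈ perp Q U, g w = w := fix_pow hr he hd i g (fun w hw => iv_perp hA hU g hg w hw)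
    (by rw [← ho, pow_orderOf_eq_one])
  constructor
  · intro h
    refine eq_one_of_triv hUn (fun u hu => ?_) fun u hu => ?_
    · have h1 := rstr_pow hU ⟨g, hg⟩ n ⟨u, hu⟩
      rw [h] at h1
      exact h1.symm
    · have h2 : ∀ n : ℕ, (g ^ n) u = u := by
        intro n
        induction n with
        | zero => rfl
        | succ n ih =>
          rw [pow_succ']
          change g ((g ^ n) u) = u
          rw [ih, hg1 u hu]
      exact h2 n
  · intro h
    apply LinearEquiv.ext
    intro u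
    apply Subtype.ext
    rw [rstr_pow]
    change (g ^ n) u = u
    rw [h]
    rfl

theorem el_range {e r i : ℕ} (hr : PP (Nat.card F) e r) (he : 1 ≤ e) {U : Submodule F V} (hUn : Nondeg (res Q U))
    (hA : A ≤ O Q) (hU : ∀ a ∈ A, ∀ w ∈ U, a w ∈ U) (hd : finrank F (perp Q U) < e) (h : El A (r ^ i)) : El (rstr hU).range (r ^ i) := by
  obtain ⟨g, hg, ho⟩ := h
  exact ⟨_, ⟨⟨g, hg⟩, rfl⟩, order_rstr hr he hUn hA hU hd hg ho⟩

/-- the elements of `Ω(U)` lift -/
theorem lift_E {U : Submodule F V} (hU : ∀ a ∈ A, ∀ w ∈ U, a w ∈ U) (h : E (res Q U) ≤ (rstr hU).range) :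
    ∀ y ∈ E (res Q U), ∃ a ∈ A, ∀ w : U, a w = y w := by
  intro y hy
  obtain ⟨a, ha⟩ := h hy
  refine ⟨a, a.2, fun w => ?_⟩
  rw [← ha, rstr_apply]

end fin

end Cfsg.Agent.H826.RgF
end
end
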